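import Groth.Agent.H18Et.Vanishing
import Groth.Agent.H10Coh.ExtMap
import Groth.Prelude.Def_EtCore
import Mathlib.CategoryTheory.Preadditive.Injective.Basic
import Mathlib.Algebra.Category.Grp.Ulift

/-!
# Cohomology of the direct image along an integral morphism

`H^n(S, a_* G) ≅ H^n(T, G)` for integral `a : T ⟶ S`.
-/

set_option autoImplicit false
set_option linter.style.haveILetI false
set_option linter.unusedSectionVars false
set_option backward.isDefEq.respectTransparency false

universe u

open CategoryTheory CategoryTheory.Limits AlgebraicGeometry Opposite CategoryTheory.Abelian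

open scoped Groth.Agent.H18Et

namespace Groth.Agent.H15Site.IntDesc

/-- The constant sheaf `ℤ`. -/
noncomputable abbrev ZE (S : Scheme.{u}) : EtCoh.Ab S :=
  (constantSheaf S.smallEtaleTopology AddCommGrpCat.{u + 1}).obj (AddCommGrpCat.of (ULift.{u + 1} ℤ))

variable {S T : Scheme.{u}} (a : T ⟶ S)

/-- Maps out of `ℤ` and maps into the direct image. -/
noncomputable def homPushEquiv (G : EtCoh.Ab T) : (ZE T ⟶ G) ≃ (ZE S ⟶ (EtCoh.push a).obj G) :=
  ((constantSheafAdj T.smallEtaleTopology AddCommGrpCat.{u + 1} (EtCore.bcTopIsTerminal a)).homEquiv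
      _ G).trans
    ((constantSheafAdj S.smallEtaleTopology AddCommGrpCat.{u + 1} (EtCore.topIsTerminal S)).homEquiv
      _ ((EtCoh.push a).obj G)).symm

lemma homPushEquiv_naturality {G G' : EtCoh.Ab T} (ψ : ZE T ⟶ G) (φ : G ⟶ G') :
    homPushEquiv a G' (ψ ≫ φ) = homPushEquiv a G ψ ≫ (EtCoh.push a).map φ := by
  simp only [homPushEquiv, Equiv.trans_apply]
  erw [Adjunction.homEquiv_naturality_right, ← Adjunction.homEquiv_naturality_right_symm]
  rfl

/-- The comparison map. -/
noncomputable def unitPush : ZE S ⟶ (EtCoh.push a).obj (ZE T) := homPushEquiv a (ZE T) (𝟙 _)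

theorem bijective_unitPush (G : EtCoh.Ab T) :
    Function.Bijective fun φ : ZE T ⟶ G => unitPush a ≫ (EtCoh.push a).map φ := by
  rw [show (fun φ : ZE T ⟶ G => unitPush a ≫ (EtCoh.push a).map φ) = homPushEquiv a G from
    funext fun φ => by rw [unitPush, ← homPushEquiv_naturality, Category.id_comp]]
  exact Equiv.bijective _

theorem preservesFiniteColimits_push [IsIntegralHom a] : PreservesFiniteColimits (EtCoh.push a) := by
  have hep : (EtCoh.push a).PreservesEpimorphisms := ⟨fun {A B} φ _ => by
    have : CategoryTheory.Sheaf.IsLocallySurjective φ :=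
      (CategoryTheory.Sheaf.isLocallySurjective_iff_epi' AddCommGrpCat.{u + 1} φ).2 inferInstance
    have := Groth.Agent.H18Et.isLocallySurjective_push a
      (Groth.Agent.H18Et.propB_of_isIntegralHom a) φ
    exact CategoryTheory.Sheaf.epi_of_isLocallySurjective _⟩
  have : (EtCoh.push a).IsRightAdjoint := ⟨_, ⟨EtCoh.pullPushAdj a⟩⟩
  refine ((EtCoh.push a).preservesFiniteColimits_tfae.out 0 3 rfl rfl).1 fun T hT => ?_
  have := hT.epi_g
  have := hT.mono_f
  exact ⟨hT.exact.map_of_mono_of_preservesKernel (EtCoh.push a) inferInstance inferInstance,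
    inferInstance⟩

theorem injective_push (I : EtCoh.Ab T) [Injective I] : Injective ((EtCoh.push a).obj I) :=
  Injective.injective_of_adjoint (EtCoh.pullPushAdj a) I

/-- **Cohomology of a direct image along an integral morphism.** -/
theorem nonempty_H_push [IsIntegralHom a] (G : EtCoh.Ab T) (n : ℕ) :
    Nonempty (AddCommGrpCat.of (EtCoh.H S ((EtCoh.push a).obj G) n) ≅
      AddCommGrpCat.of (EtCoh.H T G n)) := by
  haveI := preservesFiniteColimits_push a
  haveI : (EtCoh.push a).IsRightAdjoint := ⟨_, ⟨EtCoh.pullPushAdj a⟩⟩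
  haveI : PreservesFiniteLimits (EtCoh.push a) := inferInstance
  haveI : (EtCoh.push a).Additive := inferInstance
  exact ⟨((H10Coh.extMapEquiv (EtCoh.push a) (unitPush a) (bijective_unitPush a) (fun J _ m => by
    haveI := injective_push a J
    exact ⟨fun x y => by
      rw [Ext.eq_zero_of_injective x, Ext.eq_zero_of_injective y]⟩) n G).symm).toAddCommGrpIso⟩

/-- Base change along the identity. -/
noncomputable def bcId (S : Scheme.{u}) : 𝟭 S.Etale ≅ EtCoh.bc (𝟙 S) :=
  (NatIso.ofComponents
    (fun U => MorphismProperty.Over.isoMk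
      (asIso (pullback.fst U.hom (𝟙 S) : ((EtCoh.bc (𝟙 S)).obj U).left ⟶ U.left))
      (by
        show pullback.fst U.hom (𝟙 S) ≫ U.hom = pullback.snd U.hom (𝟙 S)
        rw [pullback.condition, Category.comp_id]))
    (fun g => MorphismProperty.Over.Hom.ext (EtCoh.isPullback_bc_map (𝟙 S) g).w)).symm

/-- The inverse image along the identity. -/
noncomputable def pullIdIso (S : Scheme.{u}) : EtCoh.pull (𝟙 S) ≅ 𝟭 (EtCoh.Ab S) :=
  (EtCoh.pullPushAdj (𝟙 S)).leftAdjointUniq (Adjunction.id.ofNatIsoRight
    (Functor.sheafPushforwardContinuousIso (F := 𝟭 S.Etale) (F' := EtCoh.bc (𝟙 S)) (bcId S)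
      AddCommGrpCat.{u + 1} S.smallEtaleTopology S.smallEtaleTopology))

end Groth.Agent.H15Site.IntDesc
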