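import Groth.Agent.H13Desc.BigRes
import Groth.Agent.H18Et.Germ
import Mathlib

/-!
# Geometric points of big etale sites

`valEv_bijective`: for an etale-comes-from-small sheaf `H` on the big site of `T`, the stalk of
`H|T_et` at a geometric point `ξ` is the value `H(ξ)`.
-/

set_option autoImplicit false
set_option linter.style.haveILetI false
set_option linter.unusedSectionVars false
set_option backward.isDefEq.respectTransparency false

universe u

open CategoryTheory CategoryTheory.Limits AlgebraicGeometry Opposite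

namespace Groth.Agent.H15Site.IntDesc

open Groth.Agent.H18Et

variable {T : Scheme.{u}} {Ω : Type u} [Field Ω] [IsSepClosed Ω] (ξ : Spec (CommRingCat.of Ω) ⟶ T)

instance initiallySmall_bigFiber :
    InitiallySmall.{u} ((coyoneda.obj (op (Over.mk ξ))).Elements) :=
  initiallySmall_of_essentiallySmall_weakly_initial_objectProperty
    (ObjectProperty.ofObj fun _ : PUnit.{u + 1} =>
      Functor.elementsMk (coyoneda.obj (op (Over.mk ξ))) (Over.mk ξ) (𝟙 _))
    (by
      rintro ⟨U, z⟩
      exact ⟨_, ⟨PUnit.unit⟩, ⟨CategoryOfElements.homMk _ _ z (Category.id_comp z)⟩⟩)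

/-- The point of the big etale site given by a geometric point. -/
noncomputable def bigPt : GrothendieckTopology.Point.{u} (QuotSh.J Scheme.etalePrecoverage T) where
  fiber := coyoneda.obj (op (Over.mk ξ))
  isCofiltered := Functor.isCofiltered_elements _
  jointly_surjective {X} R hR z := by
    rw [GrothendieckTopology.mem_over_iff] at hR
    change Sieve.overEquiv X R ∈ (Scheme.precoverage @Etale).toGrothendieck X.left at hR
    rw [Precoverage.mem_toGrothendieck_iff_of_isStableUnderComposition] at hR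
    obtain ⟨R', hR', hle⟩ := hR
    obtain ⟨ι, Y, g, rfl⟩ := R'.exists_eq_ofArrows
    obtain ⟨hcov, het⟩ := (Scheme.ofArrows_mem_precoverage_iff @Etale).1 hR'
    obtain ⟨i, y, hy⟩ := hcov ((show Spec (CommRingCat.of Ω) ⟶ X.left from (show Over.mk ξ ⟶ X from z).left).base default)
    haveI : Etale (g i) := het i
    obtain ⟨l, hl, -⟩ := Scheme.exists_fac_of_etale_of_isSepClosed (g i)
      (show Over.mk ξ ⟶ X from z).left y hy
    refine ⟨Over.mk (g i ≫ X.hom), Over.homMk (g i) rfl,
      (Sieve.overEquiv_iff R (g i)).1 (hle _ _ ⟨i⟩),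
      Over.homMk l ?_, Over.OverMorphism.ext hl⟩
    show l ≫ g i ≫ X.hom = ξ
    rw [← Category.assoc, hl]
    exact Over.w (show Over.mk ξ ⟶ X from z)

variable (H : BigSite.Ab Scheme.etalePrecoverage T)

/-- Restriction to the small site, then evaluation at the geometric point. -/
noncomputable def valEv :
    (EtCoh.stalk ξ).obj ((BigSite.resEt Scheme.etalePrecoverage T).obj H) ⟶ H.obj.obj (op (Over.mk ξ)) :=
  (Scheme.pointSmallEtale ξ).presheafFiberDesc (P := ((BigSite.resEt Scheme.etalePrecoverage T).obj H).obj)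
    (fun U z => H.obj.map (show Over.mk ξ ⟶ (EtFppf.a T).obj U from z).op)
    (fun U V g z => by
      refine (H.obj.map_comp _ _).symm.trans ?_
      rfl)

theorem valEv_germ (U : T.Etale) (z : (Scheme.pointSmallEtale ξ).fiber.obj U)
    (s : EtCoh.sect ((BigSite.resEt Scheme.etalePrecoverage T).obj H) U) :
    valEv ξ H (germ ξ ((BigSite.resEt Scheme.etalePrecoverage T).obj H) U z s) = H.obj.map (show Over.mk ξ ⟶ (EtFppf.a T).obj U from z).op s :=
  ConcreteCategory.congr_hom
    ((Scheme.pointSmallEtale ξ).toPresheafFiber_presheafFiberDesc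
      (P := ((BigSite.resEt Scheme.etalePrecoverage T).obj H).obj) _ _ U z) s

/-- The value at the geometric point is the fiber at the big point. -/
noncomputable def toBigFiber : H.obj.obj (op (Over.mk ξ)) ⟶ (bigPt ξ).presheafFiber.obj H.obj :=
  (bigPt ξ).toPresheafFiber (Over.mk ξ) (𝟙 (Over.mk ξ)) H.obj

instance isIso_toBigFiber : IsIso (toBigFiber ξ H) := by
  refine ⟨(bigPt ξ).presheafFiberDesc (P := H.obj) (fun U z => H.obj.map (show Over.mk ξ ⟶ U from z).op)
    (fun U V g z => (H.obj.map_comp _ _).symm), ?_, ?_⟩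
  · exact ((bigPt ξ).toPresheafFiber_presheafFiberDesc (P := H.obj) _ _ _ _).trans (H.obj.map_id _)
  · refine (bigPt ξ).presheafFiber_hom_ext fun U z => ?_
    refine ((Category.assoc _ _ _).symm.trans ?_).trans (Category.comp_id _).symm
    refine (congrArg (· ≫ _) ((bigPt ξ).toPresheafFiber_presheafFiberDesc (P := H.obj) _ _ U z)).trans ?_
    refine ((bigPt ξ).toPresheafFiber_w _ (𝟙 (Over.mk ξ)) H.obj).trans ?_
    exact congrArg (fun w => (bigPt ξ).toPresheafFiber U w H.obj)
      (Category.id_comp (show Over.mk ξ ⟶ U from z))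

theorem valEv_toBigFiber (U : T.Etale) (z : (Scheme.pointSmallEtale ξ).fiber.obj U) :
    (Scheme.pointSmallEtale ξ).toPresheafFiber U z ((BigSite.resEt Scheme.etalePrecoverage T).obj H).obj ≫
        valEv ξ H ≫ toBigFiber ξ H =
      (bigPt ξ).toPresheafFiber ((EtFppf.a T).obj U) z H.obj := by
  refine (Category.assoc _ _ _).symm.trans ?_
  refine (congrArg (· ≫ _) ((Scheme.pointSmallEtale ξ).toPresheafFiber_presheafFiberDesc
    (P := ((BigSite.resEt Scheme.etalePrecoverage T).obj H).obj) _ _ U z)).trans ?_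
  refine ((bigPt ξ).toPresheafFiber_w _ (𝟙 (Over.mk ξ)) H.obj).trans ?_
  exact congrArg (fun w => (bigPt ξ).toPresheafFiber _ w H.obj)
    (Category.id_comp (show Over.mk ξ ⟶ (EtFppf.a T).obj U from z))

theorem valEv_naturality {H H' : BigSite.Ab Scheme.etalePrecoverage T} (φ : H ⟶ H') :
    (Scheme.pointSmallEtale ξ).sheafFiber.map ((BigSite.resEt Scheme.etalePrecoverage T).map φ) ≫
        valEv ξ H' = valEv ξ H ≫ φ.hom.app (op (Over.mk ξ)) := by
  refine (Scheme.pointSmallEtale ξ).presheafFiber_hom_ext fun U z => ?_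
  refine ((Scheme.pointSmallEtale ξ).toPresheafFiber_naturality_assoc _ U z _).trans ?_
  refine (congrArg (_ ≫ ·) ((Scheme.pointSmallEtale ξ).toPresheafFiber_presheafFiberDesc
    (P := ((BigSite.resEt Scheme.etalePrecoverage T).obj H').obj) _ _ U z)).trans ?_
  refine Eq.trans ?_ (Category.assoc _ _ _)
  refine Eq.trans ?_ (congrArg (· ≫ _) ((Scheme.pointSmallEtale ξ).toPresheafFiber_presheafFiberDesc
    (P := ((BigSite.resEt Scheme.etalePrecoverage T).obj H).obj) _ _ U z)).symm
  exact (φ.hom.naturality (show Over.mk ξ ⟶ (EtFppf.a T).obj U from z).op).symm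

/-- The evaluation is bijective on inverse images of small sheaves. -/
theorem isIso_valEv_pi (G : EtCoh.Ab T) :
    IsIso (valEv ξ ((BigSite.piEtPull Scheme.etalePrecoverage T).obj G)) := by
  haveI := (Groth.Agent.S6184.result T).2 G
  let η := (BigSite.piEtAdj Scheme.etalePrecoverage T).unit.app G
  let P := (BigSite.piEtPull Scheme.etalePrecoverage T).obj G
  let w : (Scheme.pointSmallEtale ξ).sheafFiber.obj G ⟶ (bigPt ξ).sheafFiber.obj P :=
    (Scheme.pointSmallEtale ξ).sheafFiber.map η ≫ valEv ξ P ≫ toBigFiber ξ P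
  suffices IsIso w by
    haveI : IsIso (valEv ξ P ≫ toBigFiber ξ P) :=
      IsIso.of_isIso_comp_left ((Scheme.pointSmallEtale ξ).sheafFiber.map η) _
    exact IsIso.of_isIso_comp_right (valEv ξ P) (toBigFiber ξ P)
  rw [isIso_iff_coyoneda_map_bijective]
  intro A
  let adj := (BigSite.piEtAdj Scheme.etalePrecoverage T).comp
    ((bigPt ξ).skyscraperSheafAdjunction (A := AddCommGrpCat.{u + 1}))
  let e := ((adj.homEquiv G A).trans
    (((Scheme.pointSmallEtale ξ).skyscraperSheafAdjunction (A := AddCommGrpCat.{u + 1})).homEquiv G A).symm)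
  refine (Function.Bijective.of_comp_iff' (Equiv.refl _).bijective _).1 ?_
  suffices h : ∀ φ : (bigPt ξ).sheafFiber.obj P ⟶ A, w ≫ φ = e φ by
    exact (show (fun φ : (bigPt ξ).sheafFiber.obj P ⟶ A => w ≫ φ) = e from funext h) ▸ e.bijective
  intro φ
  refine (Scheme.pointSmallEtale ξ).presheafFiber_hom_ext fun U z => ?_
  have h1 : (Scheme.pointSmallEtale ξ).toPresheafFiber U z G.obj ≫ w ≫ φ =
      η.hom.app (op U) ≫ (bigPt ξ).toPresheafFiber ((EtFppf.a T).obj U) z P.obj ≫ φ := by
    show _ ≫ ((Scheme.pointSmallEtale ξ).presheafFiber.map η.hom ≫ valEv ξ P ≫ toBigFiber ξ P) ≫ φ = _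
    rw [Category.assoc]
    refine ((Scheme.pointSmallEtale ξ).toPresheafFiber_naturality_assoc η.hom U z _).trans ?_
    rw [← valEv_toBigFiber ξ P U z]
    simp only [Category.assoc]
    rfl
  refine h1.trans ?_
  have h2 : e φ = (Scheme.pointSmallEtale ξ).skyscraperPresheafHomEquiv.symm
      (adj.homEquiv G A φ).hom := by
    show ((Scheme.pointSmallEtale ξ).skyscraperSheafAdjunction.homEquiv G A).symm (adj.homEquiv G A φ) = _
    exact GrothendieckTopology.Point.skyscraperSheafAdjunction_homEquiv_symm_apply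
      (Scheme.pointSmallEtale ξ) (adj.homEquiv G A φ)
  have h3 : (adj.homEquiv G A φ).hom.app (op U) = η.hom.app (op U) ≫
      ((bigPt ξ).skyscraperPresheafHomEquiv φ).app (op ((EtFppf.a T).obj U)) := by
    have := adj.homEquiv_unit G A φ
    have hc : adj.homEquiv G A φ = (BigSite.piEtAdj Scheme.etalePrecoverage T).homEquiv _ _
        ((bigPt ξ).skyscraperSheafAdjunction.homEquiv P A φ) := by
      simp only [adj, Adjunction.comp_homEquiv]
      rfl
    rw [hc]
    show ((BigSite.piEtAdj Scheme.etalePrecoverage T).homEquiv _ _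
      ((bigPt ξ).skyscraperSheafAdjunction.homEquiv P A φ)).hom.app _ = _
    rw [Adjunction.homEquiv_unit]
    exact congrArg (η.hom.app (op U) ≫ ·) (congr_app
      (GrothendieckTopology.Point.skyscraperSheafAdjunction_homEquiv_apply_hom _ φ) _)
  refine Eq.trans ?_ ((congrArg (_ ≫ ·) h2).trans
    ((Scheme.pointSmallEtale ξ).toPresheafFiber_skyscraperPresheafHomEquiv_symm _ U z)).symm
  rw [h3, Category.assoc]
  exact congrArg (η.hom.app (op U) ≫ ·) ((bigPt ξ).skyscraperPresheafHomEquiv_app_π φ _ z).symm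

/-- The evaluation is bijective on sheaves isomorphic to inverse images of small sheaves. -/
theorem valEv_bijective (G : EtCoh.Ab T)
    (e : (BigSite.piEtPull Scheme.etalePrecoverage T).obj G ≅ H) :
    Function.Bijective (valEv ξ H) := by
  haveI := isIso_valEv_pi ξ G
  haveI : IsIso ((Scheme.pointSmallEtale ξ).sheafFiber.map
      ((BigSite.resEt Scheme.etalePrecoverage T).map e.hom) ≫ valEv ξ H) := by
    rw [valEv_naturality]
    haveI : IsIso (e.hom.hom.app (op (Over.mk ξ))) :=
      ((sheafToPresheaf _ _ ⋙ (evaluation _ AddCommGrpCat.{u + 1}).obj (op (Over.mk ξ))).mapIso e).isIso_hom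
    infer_instance
  haveI : IsIso (valEv ξ H) := IsIso.of_isIso_comp_left ((Scheme.pointSmallEtale ξ).sheafFiber.map
      ((BigSite.resEt Scheme.etalePrecoverage T).map e.hom)) _
  exact ConcreteCategory.bijective_of_isIso (valEv ξ H)

variable {S : Scheme.{u}}

/-- `π⁻¹F` pulled back to `T` comes from the small site of `T`. -/
theorem valEv_bijective_big (a : T ⟶ S) (F : EtCoh.Ab S) :
    Function.Bijective (valEv ξ ((BigSite.pullBig Scheme.etalePrecoverage a AddCommGrpCat.{u + 1}).obj
      ((BigSite.piEtPull Scheme.etalePrecoverage S).obj F))) :=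
  valEv_bijective ξ _ ((EtCoh.pull a).obj F) ((H13Desc.BigRes.piPullIso a).app F).symm

end Groth.Agent.H15Site.IntDesc
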