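import Groth.Agent.H15Site.IntDesc.Exact
import Mathlib.AlgebraicTopology.CechNerve

/-!
# The Čech nerve of an integral surjective morphism

Its levels are integral over the base and its geometric fibres are contractible.
-/

set_option autoImplicit false
set_option linter.style.haveILetI false
set_option linter.unusedSectionVars false
set_option backward.isDefEq.respectTransparency false
set_option backward.isDefEq.respectTransparency.types false

universe u

open CategoryTheory CategoryTheory.Limits AlgebraicGeometry Opposite Simplicial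

namespace Groth.Agent.H15Site.IntDesc

open Groth.Agent.H18Et

variable {X S : Scheme.{u}} (f : X ⟶ S)

/-- The projection to the base of a fibre power. -/
noncomputable abbrev powBase (n : ℕ) : widePullback S (fun _ : Fin n => X) (fun _ => f) ⟶ S :=
  WidePullback.base (fun _ : Fin n => f)

/-- The augmented Čech nerve over the base. -/
noncomputable def cech : SimplicialObject.Augmented (Over S) where
  left :=
    { obj := fun n => Over.mk (powBase f (n.unop.len + 1))
      map := fun g => Over.homMk ((Arrow.mk f).cechNerve.map g) (WidePullback.lift_base _ _ _ _)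
      map_id := fun n => Over.OverMorphism.ext ((Arrow.mk f).cechNerve.map_id n)
      map_comp := fun g h => Over.OverMorphism.ext ((Arrow.mk f).cechNerve.map_comp g h) }
  right := Over.mk (𝟙 S)
  hom :=
    { app := fun n => Over.homMk (powBase f (n.unop.len + 1)) (Category.comp_id _)
      naturality := fun _ _ g => Over.OverMorphism.ext
        ((Arrow.mk f).augmentedCechNerve.hom.naturality g) }

theorem isIntegralHom_powBase [IsIntegralHom f] : ∀ n : ℕ, IsIntegralHom (powBase f (n + 1)) := by
  intro n
  induction n with
  | zero =>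
    let e : widePullback S (fun _ : Fin 1 => X) (fun _ => f) ≅ X :=
      { hom := WidePullback.π (fun _ : Fin 1 => f) 0
        inv := WidePullback.lift f (fun _ => 𝟙 X) (fun _ => Category.id_comp _)
        hom_inv_id := WidePullback.hom_ext _ _ _
          (fun j => by
            rw [Category.assoc, WidePullback.lift_π, Category.id_comp, Category.comp_id, Subsingleton.elim j 0])
          (by rw [Category.assoc, WidePullback.lift_base, Category.id_comp, WidePullback.π_arrow])
        inv_hom_id := WidePullback.lift_π _ _ _ _ _ }
    have h : powBase f 1 = e.hom ≫ f := (WidePullback.π_arrow (fun _ : Fin 1 => f) 0).symm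
    haveI : IsIso e.hom := Iso.isIso_hom e
    rw [h]; exact (MorphismProperty.cancel_left_of_respectsIso @IsIntegralHom e.hom f).2 inferInstance
  | succ n ih =>
    haveI := ih
    let e : widePullback S (fun _ : Fin (n + 2) => X) (fun _ => f) ≅ pullback f (powBase f (n + 1)) :=
      { hom := pullback.lift (WidePullback.π (fun _ : Fin (n + 2) => f) 0)
          (WidePullback.lift (powBase f (n + 2)) (fun i => WidePullback.π (fun _ : Fin (n + 2) => f) i.succ)
            (fun i => WidePullback.π_arrow _ _))
          (by rw [WidePullback.lift_base, WidePullback.π_arrow])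
        inv := WidePullback.lift (pullback.fst f (powBase f (n + 1)) ≫ f)
          (Fin.cases (pullback.fst f (powBase f (n + 1)))
            (fun i => pullback.snd f (powBase f (n + 1)) ≫ WidePullback.π (fun _ : Fin (n + 1) => f) i))
          (fun j => by
            cases j using Fin.cases with
            | zero => rfl
            | succ i => rw [Fin.cases_succ, Category.assoc, WidePullback.π_arrow, pullback.condition])
        hom_inv_id := WidePullback.hom_ext _ _ _
          (fun j => by
            cases j using Fin.cases with
            | zero => simp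
            | succ i => simp)
          (by simp [powBase])
        inv_hom_id := pullback.hom_ext (by simp)
          (by
            refine WidePullback.hom_ext _ _ _ (fun j => ?_) ?_
            · simp
            · simp [powBase, pullback.condition]) }
    have h : powBase f (n + 2) = e.hom ≫ pullback.fst f (powBase f (n + 1)) ≫ f := by
      show _ = pullback.lift _ _ _ ≫ _
      rw [← Category.assoc, pullback.lift_fst, WidePullback.π_arrow]
    haveI : IsIso e.hom := Iso.isIso_hom e
    rw [h]
    exact (MorphismProperty.cancel_left_of_respectsIso @IsIntegralHom e.hom _).2 inferInstance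

variable [IsIntegralHom f]

instance isIntegralHom_cech (n : ℕ) : IsIntegralHom ((cech f).left.obj (op ⦋n⦌)).hom :=
  isIntegralHom_powBase f n

instance isIntegralHom_cech_right : IsIntegralHom (cech f).right.hom :=
  inferInstanceAs (IsIntegralHom (𝟙 S))

variable {Ω : Type u} [Field Ω] [IsAlgClosed Ω] (η : Spec (CommRingCat.of Ω) ⟶ S)

theorem δ_π (n : ℕ) (j : Fin (n + 2)) (i : Fin (n + 1)) :
    ((cech f).left.δ j).left ≫ WidePullback.π (fun _ : Fin (n + 1) => f) i =
      WidePullback.π (fun _ : Fin (n + 2) => f) (j.succAbove i) :=
  WidePullback.lift_π _ _ _ _ _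

theorem δ_base (n : ℕ) (j : Fin (n + 2)) :
    ((cech f).left.δ j).left ≫ powBase f (n + 1) = powBase f (n + 2) :=
  WidePullback.lift_base _ _ _ _

theorem nonempty_fibreContraction [Surjective f] : Nonempty (FibreContraction η (cech f)) := by
  obtain ⟨x, hx⟩ := (MorphismProperty.pullback_snd (P := @Surjective) f η inferInstance).surj
    (default : Spec (CommRingCat.of Ω))
  obtain ⟨ξ, -⟩ := surjective_qOf (f := f) (η := η) x
  let Q : ∀ n, Scheme.{u} := fun n => pullback (powBase f (n + 1)) η
  let st : ∀ n, Q n ⟶ widePullback S (fun _ : Fin (n + 2) => X) (fun _ => f) := fun n =>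
    WidePullback.lift (pullback.snd (powBase f (n + 1)) η ≫ η)
      (Fin.cases (pullback.snd (powBase f (n + 1)) η ≫ ξ.1)
        (fun i => pullback.fst (powBase f (n + 1)) η ≫ WidePullback.π (fun _ : Fin (n + 1) => f) i))
      (fun j => by
        cases j using Fin.cases with
        | zero => rw [Fin.cases_zero, Category.assoc, ξ.2]
        | succ i => rw [Fin.cases_succ, Category.assoc, WidePullback.π_arrow, pullback.condition])
  let sn : ∀ n, fibObj η ((cech f).left.obj (op ⦋n⦌)) ⟶ fibObj η ((cech f).left.obj (op ⦋n + 1⦌)) := fun n =>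
    Over.homMk (pullback.lift (st n) (pullback.snd (powBase f (n + 1)) η) (WidePullback.lift_base _ _ _ _))
      (by
        show pullback.lift _ _ _ ≫ pullback.snd (powBase f (n + 2)) η ≫ η = pullback.snd (powBase f (n + 1)) η ≫ η
        rw [← Category.assoc, pullback.lift_snd])
  let s₁ : fibObj η (cech f).right ⟶ fibObj η ((cech f).left.obj (op ⦋0⦌)) :=
    Over.homMk (pullback.lift (WidePullback.lift (pullback.snd (𝟙 S) η ≫ η) (fun _ => pullback.snd (𝟙 S) η ≫ ξ.1)
        (fun _ => by rw [Category.assoc, ξ.2])) (pullback.snd (𝟙 S) η) (WidePullback.lift_base _ _ _ _))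
      (by
        show pullback.lift _ _ _ ≫ pullback.snd (powBase f 1) η ≫ η = pullback.snd (𝟙 S) η ≫ η
        rw [← Category.assoc, pullback.lift_snd])
  have sn_fst : ∀ n, (sn n).left ≫ pullback.fst (powBase f (n + 2)) η = st n := fun n => pullback.lift_fst _ _ _
  have sn_snd : ∀ n, (sn n).left ≫ pullback.snd (powBase f (n + 2)) η = pullback.snd (powBase f (n + 1)) η :=
    fun n => pullback.lift_snd _ _ _
  have fd_fst : ∀ (n : ℕ) (j : Fin (n + 2)), (fibMap η ((cech f).left.δ j)).left ≫ pullback.fst (powBase f (n + 1)) η =
      pullback.fst (powBase f (n + 2)) η ≫ ((cech f).left.δ j).left := fun n j => fibMap_fst _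
  have fd_snd : ∀ (n : ℕ) (j : Fin (n + 2)), (fibMap η ((cech f).left.δ j)).left ≫ pullback.snd (powBase f (n + 1)) η =
      pullback.snd (powBase f (n + 2)) η := fun n j => fibMap_snd _
  have st0 : ∀ n, st n ≫ WidePullback.π (fun _ : Fin (n + 2) => f) 0 = pullback.snd (powBase f (n + 1)) η ≫ ξ.1 :=
    fun n => (WidePullback.lift_π _ _ _ _ _).trans (Fin.cases_zero ..)
  have stS : ∀ n i, st n ≫ WidePullback.π (fun _ : Fin (n + 2) => f) (Fin.succ i) =
      pullback.fst (powBase f (n + 1)) η ≫ WidePullback.π (fun _ : Fin (n + 1) => f) i :=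
    fun n i => (WidePullback.lift_π _ _ _ _ _).trans (Fin.cases_succ ..)
  refine ⟨⟨s₁, sn, ?_, ?_, fun n => ?_, fun n i => ?_⟩⟩
  · refine Over.OverMorphism.ext (pullback.hom_ext ?_ ?_)
    · show (s₁.left ≫ (fibMap η (aug₀ (cech f))).left) ≫ pullback.fst (𝟙 S) η = 𝟙 _ ≫ pullback.fst (𝟙 S) η
      rw [Category.assoc, show (fibMap η (aug₀ (cech f))).left ≫ pullback.fst (𝟙 S) η =
          pullback.fst (powBase f 1) η ≫ powBase f 1 from fibMap_fst _, pullback.condition,
        ← Category.assoc, show s₁.left ≫ pullback.snd (powBase f 1) η = pullback.snd (𝟙 S) η from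
          pullback.lift_snd _ _ _, Category.id_comp, ← pullback.condition, Category.comp_id]
    · show (s₁.left ≫ (fibMap η (aug₀ (cech f))).left) ≫ pullback.snd (𝟙 S) η = 𝟙 _ ≫ pullback.snd (𝟙 S) η
      rw [Category.assoc, show (fibMap η (aug₀ (cech f))).left ≫ pullback.snd (𝟙 S) η =
          pullback.snd (powBase f 1) η from fibMap_snd _, Category.id_comp]
      exact pullback.lift_snd _ _ _
  · refine Over.OverMorphism.ext (pullback.hom_ext ?_ ?_)
    · show ((sn 0).left ≫ (fibMap η ((cech f).left.δ (1 : Fin 2))).left) ≫ pullback.fst (powBase f 1) η =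
        ((fibMap η (aug₀ (cech f))).left ≫ s₁.left) ≫ pullback.fst (powBase f 1) η
      rw [Category.assoc, fd_fst, ← Category.assoc, sn_fst, Category.assoc,
        show s₁.left ≫ pullback.fst (powBase f 1) η = _ from pullback.lift_fst _ _ _]
      refine WidePullback.hom_ext _ _ _ (fun j => ?_) ?_
      · rw [Category.assoc (st 0), δ_π, show (1 : Fin 2).succAbove j = 0 by fin_cases j; rfl, st0]
        symm
        rw [Category.assoc, WidePullback.lift_π, ← Category.assoc,
          show (fibMap η (aug₀ (cech f))).left ≫ pullback.snd (𝟙 S) η = pullback.snd (powBase f 1) η from fibMap_snd _]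
      · rw [Category.assoc, δ_base, Category.assoc, WidePullback.lift_base, WidePullback.lift_base, ← Category.assoc,
          show (fibMap η (aug₀ (cech f))).left ≫ pullback.snd (𝟙 S) η = pullback.snd (powBase f 1) η from fibMap_snd _]
    · show ((sn 0).left ≫ (fibMap η ((cech f).left.δ (1 : Fin 2))).left) ≫ pullback.snd (powBase f 1) η =
        ((fibMap η (aug₀ (cech f))).left ≫ s₁.left) ≫ pullback.snd (powBase f 1) η
      rw [Category.assoc, fd_snd, sn_snd, Category.assoc,
        show s₁.left ≫ pullback.snd (powBase f 1) η = pullback.snd (𝟙 S) η from pullback.lift_snd _ _ _]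
      exact (fibMap_snd (η := η) (aug₀ (cech f))).symm
  · refine Over.OverMorphism.ext (pullback.hom_ext ?_ ?_)
    · show ((sn n).left ≫ (fibMap η ((cech f).left.δ (0 : Fin (n + 2)))).left) ≫ pullback.fst (powBase f (n + 1)) η = 𝟙 _ ≫ _
      rw [Category.assoc, fd_fst, ← Category.assoc, sn_fst, Category.id_comp]
      refine WidePullback.hom_ext _ _ _ (fun j => ?_) ?_
      · rw [Category.assoc, δ_π, Fin.succAbove_zero, stS]; rfl
      · rw [Category.assoc, δ_base, WidePullback.lift_base]; exact pullback.condition.symm
    · show ((sn n).left ≫ (fibMap η ((cech f).left.δ (0 : Fin (n + 2)))).left) ≫ pullback.snd (powBase f (n + 1)) η = 𝟙 _ ≫ _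
      rw [Category.assoc, fd_snd, sn_snd, Category.id_comp]
      rfl
  · refine Over.OverMorphism.ext (pullback.hom_ext ?_ ?_)
    · show ((sn (n + 1)).left ≫ (fibMap η ((cech f).left.δ i.succ)).left) ≫ pullback.fst (powBase f (n + 2)) η =
        ((fibMap η ((cech f).left.δ i)).left ≫ (sn n).left) ≫ pullback.fst (powBase f (n + 2)) η
      rw [Category.assoc, fd_fst, ← Category.assoc, sn_fst, Category.assoc, sn_fst]
      refine WidePullback.hom_ext _ _ _ (fun j => ?_) ?_
      · rw [Category.assoc, δ_π, Category.assoc]
        cases j using Fin.cases with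
        | zero => rw [Fin.succ_succAbove_zero, st0, st0, ← Category.assoc, fd_snd]
        | succ k => rw [Fin.succ_succAbove_succ, stS, stS, ← Category.assoc, fd_fst, Category.assoc, δ_π]
      · rw [Category.assoc, δ_base, Category.assoc, WidePullback.lift_base, WidePullback.lift_base,
          ← Category.assoc, fd_snd]
    · show ((sn (n + 1)).left ≫ (fibMap η ((cech f).left.δ i.succ)).left) ≫ pullback.snd (powBase f (n + 2)) η =
        ((fibMap η ((cech f).left.δ i)).left ≫ (sn n).left) ≫ pullback.snd (powBase f (n + 2)) η
      rw [Category.assoc, fd_snd, sn_snd, Category.assoc, sn_snd, fd_snd]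

/-- The descent complex of an integral surjective morphism is exact. -/
theorem acyclic_cech [Surjective f] (F : EtCoh.Ab S) : (descCx F (cech f)).Acyclic :=
  acyclic_descCx F fun _ _ _ η => nonempty_fibreContraction f η

end Groth.Agent.H15Site.IntDesc
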