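import Groth.Agent.H15Site.IntDesc.Val
import Groth.Agent.H18Et.FibreSections
import Groth.Agent.H18Et.PushStalk

/-!
# Direct images of `π⁻¹F` along integral schemes over the base

`Cfun F : (Over S)ᵒᵖ ⥤ EtCoh.Ab S`, `T ↦ (V ↦ π⁻¹F(V ×_S T))`, its evaluations at the points of the
geometric fibres, and the description of its stalks for `T` integral over `S`.
-/

set_option autoImplicit false
set_option linter.style.haveILetI false
set_option linter.unusedSectionVars false
set_option backward.isDefEq.respectTransparency false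
set_option backward.isDefEq.respectTransparency.types false

universe u

open CategoryTheory CategoryTheory.Limits AlgebraicGeometry Opposite

namespace Groth.Agent.H15Site.IntDesc

open Groth.Agent.H18Et

variable {S : Scheme.{u}} (F : EtCoh.Ab S)

/-- `π⁻¹ F` on the big site. -/
noncomputable abbrev bigSh : BigSite.Ab Scheme.etalePrecoverage S :=
  (BigSite.piEtPull Scheme.etalePrecoverage S).obj F

/-- `π⁻¹ F` on the big site of `T`. -/
noncomputable abbrev bigT (T : Over S) : BigSite.Ab Scheme.etalePrecoverage T.left :=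
  (BigSite.pullBig Scheme.etalePrecoverage T.hom AddCommGrpCat.{u + 1}).obj (bigSh F)

/-- `π⁻¹ F` on the small site of `T`. -/
noncomputable abbrev G (T : Over S) : EtCoh.Ab T.left :=
  (BigSite.resEt Scheme.etalePrecoverage T.left).obj (bigT F T)

/-- `V ×_S T` over `S`. -/
noncomputable abbrev prodObj (T : Over S) (V : S.Etale) : Over S :=
  (Over.map T.hom).obj ((EtFppf.a T.left).obj ((EtCoh.bc T.hom).obj V))

/-- Functoriality of `V ×_S T` in `T`. -/
noncomputable def prodMap {T T' : Over S} (h : T' ⟶ T) (V : S.Etale) : prodObj T' V ⟶ prodObj T V :=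
  Over.homMk (pullback.map V.hom T'.hom V.hom T.hom (𝟙 _) h.left (𝟙 _)
      (by rw [Category.id_comp, Category.comp_id]) (by rw [Category.comp_id, Over.w h])) (by
    show pullback.map _ _ _ _ _ _ _ _ _ ≫ pullback.snd V.hom T.hom ≫ T.hom = pullback.snd V.hom T'.hom ≫ T'.hom
    rw [← Category.assoc, pullback.lift_snd, Category.assoc, Over.w h])

theorem prodMap_snd {T T' : Over S} (h : T' ⟶ T) (V : S.Etale) :
    (prodMap h V).left ≫ pullback.snd V.hom T.hom = pullback.snd V.hom T'.hom ≫ h.left :=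
  pullback.lift_snd _ _ _

theorem prodMap_fst {T T' : Over S} (h : T' ⟶ T) (V : S.Etale) :
    (prodMap h V).left ≫ pullback.fst V.hom T.hom = pullback.fst V.hom T'.hom :=
  (pullback.lift_fst _ _ _).trans (Category.comp_id _)

/-- Functoriality of `V ×_S T` in `V`. -/
noncomputable abbrev prodMapV (T : Over S) {V V' : S.Etale} (g : V' ⟶ V) : prodObj T V' ⟶ prodObj T V :=
  (Over.map T.hom).map ((EtFppf.a T.left).map ((EtCoh.bc T.hom).map g))

theorem prodMapV_snd (T : Over S) {V V' : S.Etale} (g : V' ⟶ V) :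
    (prodMapV T g).left ≫ pullback.snd V.hom T.hom = pullback.snd V'.hom T.hom :=
  Over.w ((EtCoh.bc T.hom).map g).hom

theorem prodMapV_fst (T : Over S) {V V' : S.Etale} (g : V' ⟶ V) :
    (prodMapV T g).left ≫ pullback.fst V.hom T.hom = pullback.fst V'.hom T.hom ≫ g.left :=
  (EtCoh.isPullback_bc_map T.hom g).w

theorem prodMap_prodMapV {T T' : Over S} (h : T' ⟶ T) {V V' : S.Etale} (g : V' ⟶ V) :
    prodMap h V' ≫ prodMapV T g = prodMapV T' g ≫ prodMap h V := by
  refine Over.OverMorphism.ext (pullback.hom_ext ?_ ?_)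
  · show ((prodMap h V').left ≫ (prodMapV T g).left) ≫ _ = ((prodMapV T' g).left ≫ (prodMap h V).left) ≫ _
    rw [Category.assoc, Category.assoc, prodMapV_fst, prodMap_fst, prodMapV_fst, ← Category.assoc, prodMap_fst]
  · show ((prodMap h V').left ≫ (prodMapV T g).left) ≫ _ = ((prodMapV T' g).left ≫ (prodMap h V).left) ≫ _
    rw [Category.assoc, Category.assoc, prodMapV_snd, prodMap_snd, prodMap_snd, ← Category.assoc, prodMapV_snd]

/-- `V ↦ π⁻¹F(V ×_S T)`. -/
noncomputable abbrev C (T : Over S) : EtCoh.Ab S := (EtCoh.push T.hom).obj (G F T)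

/-- Functoriality in `T`. -/
noncomputable def Cmap {T T' : Over S} (h : T' ⟶ T) : C F T ⟶ C F T' :=
  ⟨{ app := fun V => (bigSh F).obj.map (prodMap h V.unop).op
     naturality := fun V V' g => by
      show (bigSh F).obj.map (prodMapV T g.unop).op ≫ (bigSh F).obj.map (prodMap h V'.unop).op =
        (bigSh F).obj.map (prodMap h V.unop).op ≫ (bigSh F).obj.map (prodMapV T' g.unop).op
      rw [← Functor.map_comp, ← Functor.map_comp, ← op_comp, ← op_comp, prodMap_prodMapV] }⟩

theorem prodMap_id (T : Over S) (V : S.Etale) : prodMap (𝟙 T) V = 𝟙 _ :=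
  Over.OverMorphism.ext (pullback.hom_ext ((prodMap_fst _ _).trans (Category.id_comp _).symm)
    ((prodMap_snd _ _).trans ((Category.comp_id _).trans (Category.id_comp _).symm)))

theorem prodMap_comp {T T' T'' : Over S} (h : T'' ⟶ T') (k : T' ⟶ T) (V : S.Etale) :
    prodMap (h ≫ k) V = prodMap h V ≫ prodMap k V := by
  refine Over.OverMorphism.ext (pullback.hom_ext ?_ ?_)
  · show _ = ((prodMap h V).left ≫ (prodMap k V).left) ≫ _
    rw [Category.assoc, prodMap_fst, prodMap_fst, prodMap_fst]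
  · show _ = ((prodMap h V).left ≫ (prodMap k V).left) ≫ _
    rw [Category.assoc, prodMap_snd, prodMap_snd, ← Category.assoc, prodMap_snd, Category.assoc]
    rfl

/-- `T ↦ (V ↦ π⁻¹F(V ×_S T))`. -/
noncomputable def Cfun : (Over S)ᵒᵖ ⥤ EtCoh.Ab S where
  obj T := C F T.unop
  map h := Cmap F h.unop
  map_id T := by
    refine CategoryTheory.Sheaf.hom_ext (NatTrans.ext (funext fun V => ?_))
    show (bigSh F).obj.map (prodMap (𝟙 T.unop) V.unop).op = 𝟙 _
    rw [prodMap_id, op_id]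
    exact (bigSh F).obj.map_id _
  map_comp h k := by
    refine CategoryTheory.Sheaf.hom_ext (NatTrans.ext (funext fun V => ?_))
    show (bigSh F).obj.map (prodMap (k.unop ≫ h.unop) V.unop).op =
      (bigSh F).obj.map (prodMap h.unop V.unop).op ≫ (bigSh F).obj.map (prodMap k.unop V.unop).op
    rw [prodMap_comp, op_comp, Functor.map_comp]

theorem map_map {A B C : Over S} (f : A ⟶ B) (g : B ⟶ C) (s : (bigSh F).obj.obj (op C)) :
    (bigSh F).obj.map f.op ((bigSh F).obj.map g.op s) = (bigSh F).obj.map (f ≫ g).op s :=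
  (ConcreteCategory.congr_hom ((bigSh F).obj.map_comp g.op f.op) s).symm

theorem map_congr {A C : Over S} {f g : A ⟶ C} (h : f = g) (s : (bigSh F).obj.obj (op C)) :
    (bigSh F).obj.map f.op s = (bigSh F).obj.map g.op s := by rw [h]

variable {Ω : Type u} [Field Ω] [IsAlgClosed Ω] (η : Spec (CommRingCat.of Ω) ⟶ S)

/-- The geometric fibre, as a scheme over `S`. -/
noncomputable abbrev fibObj (T : Over S) : Over S := Over.mk (pullback.snd T.hom η ≫ η)

/-- Functoriality of the geometric fibre. -/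
noncomputable def fibMap {T T' : Over S} (h : T' ⟶ T) : fibObj η T' ⟶ fibObj η T :=
  Over.homMk (pullback.map T'.hom η T.hom η h.left (𝟙 _) (𝟙 _)
      (by rw [Category.comp_id, Over.w h]) (by rw [Category.id_comp, Category.comp_id])) (by
    show pullback.map _ _ _ _ _ _ _ _ _ ≫ pullback.snd T.hom η ≫ η = pullback.snd T'.hom η ≫ η
    rw [← Category.assoc, pullback.lift_snd, Category.comp_id])

variable {η}

/-- The point of the fibre. -/
noncomputable abbrev secO {T : Over S} (ξ : Pts T.hom η) : Over.mk η ⟶ fibObj η T :=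
  Over.homMk (secPt ξ) ((Category.assoc _ _ _).symm.trans
    ((congrArg (· ≫ η) (pullback.lift_snd _ _ _)).trans (Category.id_comp _)))

/-- The image of a point. -/
noncomputable def mapPt {T T' : Over S} (h : T' ⟶ T) (ξ : Pts T'.hom η) : Pts T.hom η :=
  ⟨ξ.1 ≫ h.left, by rw [Category.assoc, Over.w h, ξ.2]⟩

theorem fibMap_fst {T T' : Over S} (h : T' ⟶ T) :
    (fibMap η h).left ≫ pullback.fst T.hom η = pullback.fst T'.hom η ≫ h.left :=
  pullback.lift_fst _ _ _

theorem fibMap_snd {T T' : Over S} (h : T' ⟶ T) :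
    (fibMap η h).left ≫ pullback.snd T.hom η = pullback.snd T'.hom η :=
  (pullback.lift_snd _ _ _).trans (Category.comp_id _)

theorem secO_fibMap {T T' : Over S} (h : T' ⟶ T) (ξ : Pts T'.hom η) :
    secO ξ ≫ fibMap η h = secO (mapPt h ξ) := by
  refine Over.OverMorphism.ext (pullback.hom_ext ?_ ?_)
  · show (secPt ξ ≫ (fibMap η h).left) ≫ _ = secPt (mapPt h ξ) ≫ _
    rw [Category.assoc, fibMap_fst, ← Category.assoc, pullback.lift_fst, pullback.lift_fst]
    rfl
  · show (secPt ξ ≫ (fibMap η h).left) ≫ _ = secPt (mapPt h ξ) ≫ _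
    rw [Category.assoc, fibMap_snd, pullback.lift_snd, pullback.lift_snd]

/-- `η` as a point of `T` over `S`. -/
noncomputable abbrev ptO {T : Over S} (ξ : Pts T.hom η) : Over.mk η ⟶ (Over.map T.hom).obj (Over.mk ξ.1) :=
  Over.homMk (𝟙 _) ((Category.id_comp _).trans ξ.2)

/-- The evaluation at a point of the geometric fibre. -/
noncomputable def ev {T : Over S} [IsIntegralHom T.hom] (ξ : Pts T.hom η) :
    (EtCoh.stalk η).obj (C F T) ⟶ (bigSh F).obj.obj (op (Over.mk η)) :=
  (pushEval ξ).app (G F T) ≫ valEv ξ.1 (bigT F T) ≫ (bigSh F).obj.map (ptO ξ).op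

/-- The point of `V ×_S T` at a point of the fibre. -/
noncomputable def evPt {T : Over S} (ξ : Pts T.hom η) (V : S.Etale)
    (v : (Scheme.pointSmallEtale η).fiber.obj V) : Over.mk η ⟶ prodObj T V :=
  Over.homMk (secPt ξ ≫ ιFib V v) (by
    show (secPt ξ ≫ ιFib V v) ≫ pullback.snd V.hom T.hom ≫ T.hom = η
    rw [← Category.assoc, Category.assoc (secPt ξ), ιFib_snd, pullback.lift_fst, ξ.2])

theorem ev_germ {T : Over S} [IsIntegralHom T.hom] (ξ : Pts T.hom η) (V : S.Etale)
    (v : (Scheme.pointSmallEtale η).fiber.obj V) (s : EtCoh.sect (C F T) V) :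
    ev F ξ (germ η (C F T) V v s) = (bigSh F).obj.map (evPt ξ V v).op s := by
  show (bigSh F).obj.map (ptO ξ).op (valEv ξ.1 (bigT F T) ((pushEval ξ).app (G F T) (germ η (C F T) V v s))) = _
  rw [show (pushEval ξ).app (G F T) (germ η (C F T) V v s) = germ ξ.1 (G F T) _ (bcPt ξ V v) s from
    pushEval_germ ξ (G F T) V v s, valEv_germ]
  refine (map_map F (ptO ξ) ((Over.map T.hom).map (show Over.mk ξ.1 ⟶ (EtFppf.a T.left).obj ((EtCoh.bc T.hom).obj V) from bcPt ξ V v)) s).trans
    (map_congr F (Over.OverMorphism.ext ?_) s)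
  exact Category.id_comp _

theorem evPt_prodMap {T T' : Over S} (h : T' ⟶ T) (ξ : Pts T'.hom η) (V : S.Etale)
    (v : (Scheme.pointSmallEtale η).fiber.obj V) :
    evPt ξ V v ≫ prodMap h V = evPt (mapPt h ξ) V v := by
  refine Over.OverMorphism.ext (pullback.hom_ext ?_ ?_)
  · show ((secPt ξ ≫ ιFib V v) ≫ (prodMap h V).left) ≫ _ = (secPt (mapPt h ξ) ≫ ιFib V v) ≫ _
    rw [Category.assoc, prodMap_fst, Category.assoc, ιFib_fst, Category.assoc, ιFib_fst, ← Category.assoc,
      ← Category.assoc, pullback.lift_snd, pullback.lift_snd]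
  · show ((secPt ξ ≫ ιFib V v) ≫ (prodMap h V).left) ≫ _ = (secPt (mapPt h ξ) ≫ ιFib V v) ≫ _
    rw [Category.assoc, prodMap_snd, Category.assoc, ← Category.assoc (ιFib V v), ιFib_snd, Category.assoc,
      ιFib_snd, ← Category.assoc, pullback.lift_fst, pullback.lift_fst]
    rfl

/-- Evaluations are natural. -/
theorem ev_Cmap {T T' : Over S} [IsIntegralHom T.hom] [IsIntegralHom T'.hom] (h : T' ⟶ T) (ξ : Pts T'.hom η) (a : (EtCoh.stalk η).obj (C F T)) :
    ev F ξ ((EtCoh.stalk η).map (Cmap F h) a) = ev F (mapPt h ξ) a := by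
  obtain ⟨V, v, s, rfl⟩ := germ_surjective η (C F T) a
  rw [ev_germ]
  have e : (EtCoh.stalk η).map (Cmap F h) (germ η (C F T) V v s) =
      germ η (C F T') V v ((bigSh F).obj.map (prodMap h V).op s) :=
    (Scheme.pointSmallEtale η).toPresheafFiber_naturality_apply (Cmap F h).hom V v s
  rw [e, ev_germ]
  refine (ConcreteCategory.congr_hom ((bigSh F).obj.map_comp _ _).symm s).trans ?_
  rw [← op_comp, evPt_prodMap]
  rfl

theorem bijective_valEv {T : Over S} (ξ : Pts T.hom η) :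
    Function.Bijective (valEv ξ.1 (bigT F T)) :=
  valEv_bijective_big ξ.1 T.hom F

theorem injective_map_ptO {T : Over S} (ξ : Pts T.hom η) :
    Function.Injective ((bigSh F).obj.map (ptO ξ).op) := by
  let i : (Over.map T.hom).obj (Over.mk ξ.1) ⟶ Over.mk η :=
    Over.homMk (𝟙 _) ((Category.id_comp _).trans ξ.2.symm)
  intro a b e
  have e' := congrArg ((bigSh F).obj.map i.op) e
  rw [← ConcreteCategory.comp_apply, ← ConcreteCategory.comp_apply, ← Functor.map_comp, ← op_comp,
    show i ≫ ptO ξ = 𝟙 _ from Over.OverMorphism.ext (Category.id_comp _), op_id, CategoryTheory.Functor.map_id] at e'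
  exact e'

/-- The evaluations are jointly injective. -/
theorem ev_jointly_injective {T : Over S} [IsIntegralHom T.hom] (a b : (EtCoh.stalk η).obj (C F T))
    (h : ∀ ξ : Pts T.hom η, ev F ξ a = ev F ξ b) : a = b :=
  pushEval_jointly_injective (G F T) a b fun ξ =>
    (bijective_valEv F ξ).1 (injective_map_ptO F ξ (show (bigSh F).obj.map (ptO ξ).op
      (valEv ξ.1 (bigT F T) ((pushEval ξ).app (G F T) a)) = (bigSh F).obj.map (ptO ξ).op
      (valEv ξ.1 (bigT F T) ((pushEval ξ).app (G F T) b)) from h ξ))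

/-- Sections over the fibre give elements of the stalk. -/
theorem exists_ev_eq {T : Over S} [IsIntegralHom T.hom] (x : (bigSh F).obj.obj (op (fibObj η T))) :
    ∃ b : (EtCoh.stalk η).obj (C F T), ∀ ξ : Pts T.hom η,
      ev F ξ b = (bigSh F).obj.map (secO ξ).op x := by
  classical
  -- the fibre
  let P := fibObj η T
  let HP : BigSite.Ab Scheme.etalePrecoverage (pullback T.hom η) :=
    (BigSite.pullBig Scheme.etalePrecoverage (pullback.snd T.hom η ≫ η) AddCommGrpCat.{u + 1}).obj (bigSh F)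
  let GP : EtCoh.Ab (pullback T.hom η) := (BigSite.resEt Scheme.etalePrecoverage (pullback T.hom η)).obj HP
  let xT : ∀ ξ : Pts T.hom η, (bigT F T).obj.obj (op (Over.mk ξ.1)) := fun ξ =>
    (bigSh F).obj.map (Over.homMk (secPt ξ) (by
      show secPt ξ ≫ pullback.snd T.hom η ≫ η = ξ.1 ≫ T.hom
      rw [← Category.assoc, pullback.lift_snd, Category.id_comp, ξ.2]) :
        (Over.map T.hom).obj (Over.mk ξ.1) ⟶ P).op x
  choose t ht using fun ξ => (bijective_valEv F ξ).2 (xT ξ)
  obtain ⟨b, hb⟩ := exists_pushEval_eq (G F T) t fun ξ => by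
    obtain ⟨U, z, σ, hσ⟩ := germ_surjective ξ.1 (G F T) (t ξ)
    obtain ⟨V₁, v₁, O₁, k, hO₁, hk⟩ := exists_bc_lift ξ U z
    let σ₁ : EtCoh.sect (G F T) (openObj _ O₁) := (G F T).obj.map k.op σ
    let W : (pullback T.hom η).Opens := ιFib V₁ v₁ ⁻¹ᵁ O₁
    let Q : (pullback T.hom η).Etale := openObj (EtCoh.top (pullback T.hom η)) W
    let r : W.toScheme ⟶ O₁.toScheme := (ιFib V₁ v₁).resLE O₁ W le_rfl
    have hr : r ≫ O₁.ι = W.ι ≫ ιFib V₁ v₁ := Scheme.Hom.resLE_comp_ι _ le_rfl
    let c₁ : (Over.map (pullback.snd T.hom η ≫ η)).obj ((EtFppf.a _).obj Q) ⟶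
        (Over.map T.hom).obj ((EtFppf.a T.left).obj (openObj _ O₁)) :=
      Over.homMk r (by
        show r ≫ (O₁.ι ≫ pullback.snd V₁.hom T.hom) ≫ T.hom = (W.ι ≫ 𝟙 _) ≫ pullback.snd T.hom η ≫ η
        rw [Category.comp_id, ← Category.assoc r, ← Category.assoc r, hr, Category.assoc W.ι, ιFib_snd,
          Category.assoc, pullback.condition])
    let c₂ : (Over.map (pullback.snd T.hom η ≫ η)).obj ((EtFppf.a _).obj Q) ⟶ P :=
      Over.homMk W.ι (by
        show W.ι ≫ pullback.snd T.hom η ≫ η = (W.ι ≫ 𝟙 _) ≫ pullback.snd T.hom η ≫ η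
        rw [Category.comp_id])
    let σQ : EtCoh.sect GP Q := (bigSh F).obj.map c₁.op σ₁
    let xQ : EtCoh.sect GP Q := (bigSh F).obj.map c₂.op x
    have hqW : qOf ξ ∈ W := (congrArg (· ∈ O₁) (ptOf_bcPt ξ V₁ v₁)).mp hO₁
    let top₀ : (Scheme.pointSmallEtale (secPt ξ)).fiber.obj (EtCoh.top (pullback T.hom η)) :=
      Over.homMk (secPt ξ) (Category.comp_id _)
    obtain ⟨q, hq⟩ := exists_openPt (T := EtCoh.top (pullback T.hom η)) W top₀ hqW
    have hql : (show Spec (CommRingCat.of Ω) ⟶ W.toScheme from q.left) ≫ W.ι = secPt ξ :=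
      congrArg (fun m => m.left) hq
    obtain ⟨y₁, hy₁⟩ := exists_openPt O₁ (bcPt ξ V₁ v₁) hO₁
    have hy₁l : (show Spec (CommRingCat.of Ω) ⟶ O₁.toScheme from y₁.left) ≫ O₁.ι = secPt ξ ≫ ιFib V₁ v₁ :=
      congrArg (fun m => m.left) hy₁
    have e1 : valEv (secPt ξ) HP (germ (secPt ξ) GP Q q σQ) =
        valEv (secPt ξ) HP (germ (secPt ξ) GP Q q xQ) := by
      let j : (Over.map (pullback.snd T.hom η ≫ η)).obj (Over.mk (secPt ξ)) ⟶
          (Over.map T.hom).obj (Over.mk ξ.1) :=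
        Over.homMk (𝟙 _) (by
          show 𝟙 _ ≫ ξ.1 ≫ T.hom = secPt ξ ≫ pullback.snd T.hom η ≫ η
          rw [Category.id_comp, ← Category.assoc, pullback.lift_snd, Category.id_comp, ξ.2])
      have h0 : valEv ξ.1 (bigT F T) (germ ξ.1 (G F T) _ y₁ σ₁) = xT ξ := by
        rw [← ht ξ, ← hσ]
        refine congrArg _ ?_
        refine ((Scheme.pointSmallEtale ξ.1).toPresheafFiber_w_apply k y₁ (G F T).obj σ).trans ?_
        exact congrArg (fun w => germ ξ.1 (G F T) U w σ) (hk y₁ hy₁)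
      rw [valEv_germ] at h0 ⊢
      rw [valEv_germ]
      have h1 := congrArg ((bigSh F).obj.map j.op) h0
      refine Eq.trans ?_ (h1.trans ?_)
      · refine (map_map F ((Over.map (pullback.snd T.hom η ≫ η)).map (show Over.mk (secPt ξ) ⟶
            (EtFppf.a _).obj Q from q)) c₁ σ₁).trans
          (Eq.trans (map_congr F ?_ σ₁) (map_map F j ((Over.map T.hom).map
            (show Over.mk ξ.1 ⟶ (EtFppf.a T.left).obj (openObj _ O₁) from y₁)) σ₁).symm)
        refine Over.OverMorphism.ext ((cancel_mono O₁.ι).1 ?_)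
        show ((show Spec (CommRingCat.of Ω) ⟶ W.toScheme from q.left) ≫ r) ≫ O₁.ι = (𝟙 _ ≫ (show Spec (CommRingCat.of Ω) ⟶ O₁.toScheme from y₁.left)) ≫ O₁.ι
        rw [Category.assoc, hr, ← Category.assoc, hql, Category.id_comp, hy₁l]
      · refine (map_map F j _ x).trans
          (Eq.trans (map_congr F ?_ x) (map_map F ((Over.map (pullback.snd T.hom η ≫ η)).map
            (show Over.mk (secPt ξ) ⟶ (EtFppf.a _).obj Q from q)) c₂ x).symm)
        refine Over.OverMorphism.ext ?_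
        show 𝟙 _ ≫ secPt ξ = (show Spec (CommRingCat.of Ω) ⟶ W.toScheme from q.left) ≫ W.ι
        rw [Category.id_comp, hql]
    obtain ⟨U', g', q', hq', he'⟩ := (germ_eq_iff (secPt ξ) GP Q q σQ xQ).1
      ((valEv_bijective_big (secPt ξ) (pullback.snd T.hom η ≫ η) F).1 e1)
    haveI := etale_left g'
    let g'' : U'.left ⟶ pullback T.hom η := g'.left ≫ W.ι
    haveI : Etale g'' := inferInstanceAs (Etale (g'.left ≫ W.ι))
    let O' : (pullback T.hom η).Opens := ⟨Set.range g''.base, g''.isOpenMap.isOpen_range⟩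
    have hξO' : qOf ξ ∈ O' := by
      refine ⟨ptOf q', ?_⟩
      have h1 : (show Spec (CommRingCat.of Ω) ⟶ U'.left from q'.left) ≫ g'' = secPt ξ :=
        (Category.assoc _ _ _).symm.trans ((congrArg (· ≫ W.ι) (congrArg (fun m => m.left) hq')).trans hql)
      show g''.base _ = (secPt ξ).base default
      exact congrArg (fun m : Spec (CommRingCat.of Ω) ⟶ pullback T.hom η => m.base default) h1
    obtain ⟨V₂, v₂, O₂, hO₂, hle⟩ := exists_nbhd_open O' ξ hξO'
    obtain ⟨⟨V, v⟩, ⟨g₁, hg₁⟩, ⟨g₂, hg₂⟩, -⟩ := IsCofilteredOrEmpty.cone_objs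
      (C := (Scheme.pointSmallEtale η).fiber.Elements) ⟨V₁, v₁⟩ ⟨V₂, v₂⟩
    dsimp at g₁ g₂ hg₁ hg₂
    let m₁ := (EtCoh.bc T.hom).map g₁
    let m₂ := (EtCoh.bc T.hom).map g₂
    let O : ((EtCoh.bc T.hom).obj V).left.Opens := m₁.left ⁻¹ᵁ O₁ ⊓ m₂.left ⁻¹ᵁ O₂
    have hpt₁ : ∀ ξ' : Pts T.hom η, m₁.left.base (ptOf (bcPt ξ' V v)) = ptOf (bcPt ξ' V₁ v₁) :=
      fun ξ' => (ptOf_map m₁ _).trans (congrArg ptOf (bcPt_map ξ' g₁ hg₁))
    have hpt₂ : ∀ ξ' : Pts T.hom η, m₂.left.base (ptOf (bcPt ξ' V v)) = ptOf (bcPt ξ' V₂ v₂) :=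
      fun ξ' => (ptOf_map m₂ _).trans (congrArg ptOf (bcPt_map ξ' g₂ hg₂))
    let l := openLift m₁ O₁ O inf_le_left
    refine ⟨V, v, O, (G F T).obj.map l.op σ₁, ⟨(congrArg (· ∈ O₁) (hpt₁ ξ)).mpr hO₁,
      (congrArg (· ∈ O₂) (hpt₂ ξ)).mpr ((congrArg (· ∈ O₂) (ptOf_bcPt ξ V₂ v₂)).mpr hO₂)⟩,
      fun ξ' y hy => ?_⟩
    apply (bijective_valEv F ξ').1
    rw [ht ξ', valEv_germ]
    have hyl : (show Spec (CommRingCat.of Ω) ⟶ O.toScheme from y.left) ≫ O.ι = secPt ξ' ≫ ιFib V v :=
      congrArg (fun m => m.left) hy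
    have hq'' : qOf ξ' ∈ O' :=
      hle ((congrArg (· ∈ O₂) (ptOf_bcPt ξ' V₂ v₂)).mp
        ((congrArg (· ∈ O₂) (hpt₂ ξ')).mp (openPt_mem O y hy).2))
    obtain ⟨w, hw⟩ := hq''
    obtain ⟨n, hn, -⟩ := Scheme.exists_fac_of_etale_of_isSepClosed g'' (secPt ξ') w hw
    let d : (Over.map T.hom).obj (Over.mk ξ'.1) ⟶
        (Over.map (pullback.snd T.hom η ≫ η)).obj ((EtFppf.a _).obj U') :=
      Over.homMk n (by
        show n ≫ U'.hom ≫ pullback.snd T.hom η ≫ η = ξ'.1 ≫ T.hom
        have hU : g'' = U'.hom :=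
          (congrArg (g'.left ≫ ·) (Category.comp_id W.ι).symm).trans (Over.w g'.hom)
        rw [← hU, ← Category.assoc, hn, ← Category.assoc, pullback.lift_snd, Category.id_comp, ξ'.2])
    let gO := (Over.map (pullback.snd T.hom η ≫ η)).map ((EtFppf.a _).map g')
    have h2 := congrArg ((bigSh F).obj.map d.op) he'
    refine Eq.trans ?_ (h2.trans ?_)
    · refine (map_map F ((Over.map T.hom).map (show Over.mk ξ'.1 ⟶
            (EtFppf.a T.left).obj (openObj _ O) from y))
          ((Over.map T.hom).map ((EtFppf.a T.left).map l)) σ₁).trans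
        (Eq.trans (map_congr F ?_ σ₁) (((congrArg _ (map_map F gO c₁ σ₁)).trans
          (map_map F d (gO ≫ c₁) σ₁)).symm))
      refine Over.OverMorphism.ext ((cancel_mono O₁.ι).1 ?_)
      show ((show Spec (CommRingCat.of Ω) ⟶ O.toScheme from y.left) ≫ l.left) ≫ O₁.ι = (n ≫ g'.left ≫ r) ≫ O₁.ι
      rw [Category.assoc, Category.assoc, Category.assoc, hr,
        show l.left ≫ O₁.ι = O.ι ≫ m₁.left from m₁.left.resLE_comp_ι inf_le_left, ← Category.assoc, hyl,
        Category.assoc, ιFib_naturality g₁ hg₁, ← Category.assoc g'.left, ← Category.assoc n, hn]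
    · refine ((congrArg _ (map_map F gO c₂ x)).trans (map_map F d (gO ≫ c₂) x)).trans
        (map_congr F ?_ x)
      refine Over.OverMorphism.ext ?_
      show n ≫ g'.left ≫ W.ι = secPt ξ'
      exact hn
  refine ⟨b, fun ξ => ?_⟩
  show (bigSh F).obj.map (ptO ξ).op (valEv ξ.1 (bigT F T) ((pushEval ξ).app (G F T) b)) = _
  rw [hb ξ, ht ξ]
  refine (map_map F (ptO ξ) _ x).trans (map_congr F ?_ x)
  exact Over.OverMorphism.ext (Category.id_comp _)

end Groth.Agent.H15Site.IntDesc
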