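import Groth.Agent.H15Site.IntDesc.Cfun
import Mathlib.AlgebraicTopology.AlternatingFaceMapComplex
import Mathlib.AlgebraicTopology.ExtraDegeneracy
import Mathlib.Algebra.Homology.Augment
import Mathlib.Algebra.Homology.Embedding.ExtendHomology

/-!
# Exactness of the descent complex of an integral simplicial scheme

If the geometric fibres of an augmented simplicial scheme over `S` with integral terms have extra
degeneracies, the complex `n ↦ (V ↦ π⁻¹F(V ×_S Kₙ))` is exact.
-/

set_option autoImplicit false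
set_option linter.style.haveILetI false
set_option linter.unusedSectionVars false
set_option backward.isDefEq.respectTransparency false
set_option backward.isDefEq.respectTransparency.types false

universe u

open CategoryTheory CategoryTheory.Limits AlgebraicGeometry Opposite Simplicial
open scoped ZeroObject

namespace Groth.Agent.H15Site.IntDesc

open Groth.Agent.H18Et

/-- Exactness is detected at algebraically closed geometric points. -/
theorem exact_of_stalk_algClosed {X : Scheme.{u}} (T : ShortComplex (EtCoh.Ab X))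
    (h : ∀ (Ω : Type u) [Field Ω] [IsAlgClosed Ω] (ξ : Spec (CommRingCat.of Ω) ⟶ X),
      (T.map (EtCoh.stalk ξ)).Exact) : T.Exact := by
  rw [ShortComplex.exact_iff_isZero_homology]
  haveI : Mono (0 : T.homology ⟶ (0 : EtCoh.Ab X)) := mono_of_stalk _ fun x => by
    let ξ : Spec (CommRingCat.of (AlgebraicClosure (X.residueField x))) ⟶ X :=
      Spec.map (CommRingCat.ofHom (algebraMap (X.residueField x) _)) ≫ X.fromSpecResidueField x
    refine ⟨AlgebraicClosure (X.residueField x), inferInstance, inferInstance, ξ, ?_, ?_⟩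
    · show (Spec.map _ ≫ X.fromSpecResidueField x).base default = x
      exact (Scheme.Hom.comp_apply _ _ _).trans (X.fromSpecResidueField_apply x _)
    · haveI := AddCommGrpCat.subsingleton_of_isZero
        (((ShortComplex.exact_iff_isZero_homology _).1 (h _ ξ)).of_iso
          (T.mapHomologyIso (EtCoh.stalk ξ)).symm)
      exact Function.injective_of_subsingleton _
  exact IsZero.of_mono (0 : T.homology ⟶ (0 : EtCoh.Ab X)) (isZero_zero _)

variable {S : Scheme.{u}} (F : EtCoh.Ab S) {Ω : Type u} [Field Ω] [IsAlgClosed Ω]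
  (η : Spec (CommRingCat.of Ω) ⟶ S)

/-- The geometric fibre in a neighbourhood. -/
noncomputable def fibPt (T : Over S) (V : S.Etale) (v : (Scheme.pointSmallEtale η).fiber.obj V) :
    fibObj η T ⟶ prodObj T V :=
  Over.homMk (ιFib V v) (by
    show ιFib V v ≫ pullback.snd V.hom T.hom ≫ T.hom = pullback.snd T.hom η ≫ η
    rw [← Category.assoc, ιFib_snd, pullback.condition])

/-- Restriction to the geometric fibre. -/
noncomputable def θ (T : Over S) :
    (EtCoh.stalk η).obj (C F T) ⟶ (bigSh F).obj.obj (op (fibObj η T)) :=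
  (Scheme.pointSmallEtale η).presheafFiberDesc (P := (C F T).obj)
    (fun V v => (bigSh F).obj.map (fibPt η T V v).op)
    (fun V' V g v => by
      ext s
      refine (map_map F (fibPt η T V' v) (prodMapV T g) s).trans (map_congr F ?_ s)
      exact Over.OverMorphism.ext (ιFib_naturality g rfl))

theorem θ_germ (T : Over S) (V : S.Etale) (v : (Scheme.pointSmallEtale η).fiber.obj V)
    (s : EtCoh.sect (C F T) V) :
    θ F η T (germ η (C F T) V v s) = (bigSh F).obj.map (fibPt η T V v).op s :=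
  ConcreteCategory.congr_hom ((Scheme.pointSmallEtale η).toPresheafFiber_presheafFiberDesc
    (P := (C F T).obj) _ _ V v) s

theorem ev_eq_θ {T : Over S} [IsIntegralHom T.hom] (ξ : Pts T.hom η) (a : (EtCoh.stalk η).obj (C F T)) :
    ev F ξ a = (bigSh F).obj.map (secO ξ).op (θ F η T a) := by
  obtain ⟨V, v, s, rfl⟩ := germ_surjective η (C F T) a
  rw [ev_germ, θ_germ, map_map F]
  exact map_congr F (Over.OverMorphism.ext rfl) s

theorem θ_Cmap {T T' : Over S} (h : T' ⟶ T) (a : (EtCoh.stalk η).obj (C F T)) :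
    θ F η T' ((EtCoh.stalk η).map (Cmap F h) a) = (bigSh F).obj.map (fibMap η h).op (θ F η T a) := by
  obtain ⟨V, v, s, rfl⟩ := germ_surjective η (C F T) a
  have e : (EtCoh.stalk η).map (Cmap F h) (germ η (C F T) V v s) =
      germ η (C F T') V v ((bigSh F).obj.map (prodMap h V).op s) :=
    (Scheme.pointSmallEtale η).toPresheafFiber_naturality_apply (Cmap F h).hom V v s
  rw [e, θ_germ, θ_germ, map_map F, map_map F]
  refine map_congr F (Over.OverMorphism.ext (pullback.hom_ext ?_ ?_)) s
  · show (ιFib V v ≫ (prodMap h V).left) ≫ _ = ((fibMap η h).left ≫ ιFib V v) ≫ _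
    rw [Category.assoc, prodMap_fst, Category.assoc, ιFib_fst, ιFib_fst, ← Category.assoc, fibMap_snd]
  · show (ιFib V v ≫ (prodMap h V).left) ≫ _ = ((fibMap η h).left ≫ ιFib V v) ≫ _
    rw [Category.assoc, prodMap_snd, ← Category.assoc, ιFib_snd, Category.assoc, ιFib_snd, fibMap_fst]

variable (K : SimplicialObject.Augmented (Over S))

/-- The terms. -/
noncomputable abbrev lev (n : ℕ) : Over S := K.left.obj (op ⦋n⦌)

/-- The augmentation. -/
noncomputable abbrev aug₀ : lev K 0 ⟶ K.right := K.hom.app (op ⦋0⦌)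

/-- The complex `n ↦ C(Kₙ)`. -/
noncomputable def coC : CochainComplex (EtCoh.Ab S) ℕ :=
  CochainComplex.of (fun n => C F (lev K n))
    (fun n => ∑ i : Fin (n + 2), ((-1 : ℤ) ^ (i : ℕ)) • Cmap F (K.left.δ i))
    (fun n => AlgebraicTopology.AlternatingCofaceMapComplex.d_squared (K.left.rightOp ⋙ Cfun F) n)

theorem coC_d (n : ℕ) : (coC F K).d n (n + 1) =
    ∑ i : Fin (n + 2), ((-1 : ℤ) ^ (i : ℕ)) • Cmap F (K.left.δ i) := by
  simp [coC]

theorem Cmap_comp {T T' T'' : Over S} (k : T'' ⟶ T') (h : T' ⟶ T) :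
    Cmap F h ≫ Cmap F k = Cmap F (k ≫ h) :=
  ((Cfun F).map_comp h.op k.op).symm

/-- The augmentation. -/
noncomputable abbrev augC : C F K.right ⟶ (coC F K).X 0 := Cmap F (aug₀ K)

theorem aug_comp_d : augC F K ≫ (coC F K).d 0 1 = 0 := by
  have e : ∀ i : Fin 2, Cmap F (aug₀ K) ≫ Cmap F (K.left.δ i) =
      Cmap F (K.hom.app (op ⦋1⦌)) := fun i => by
    rw [Cmap_comp]
    exact congrArg (Cmap F) ((K.hom.naturality (SimplexCategory.δ i).op).trans (Category.comp_id _))
  rw [coC_d, Fin.sum_univ_two]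
  simp only [Fin.val_zero, Fin.val_one, pow_zero, one_smul, pow_one, neg_one_zsmul]
  refine (Preadditive.comp_add _ _ _ _ _ _).trans ?_
  rw [Preadditive.comp_neg]
  exact (congrArg₂ (fun p q => p + -q) (e 0) (e 1)).trans (add_neg_cancel _)

/-- The augmented complex, starting in degree `0` with the base. -/
noncomputable abbrev augCx : CochainComplex (EtCoh.Ab S) ℕ :=
  CochainComplex.augment (coC F K) (augC F K) (aug_comp_d F K)

/-- The augmented complex, starting in degree `-1`. -/
noncomputable abbrev descCx : CochainComplex (EtCoh.Ab S) ℤ :=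
  (augCx F K).extend (ComplexShape.embeddingUpIntGE (-1))

/-- Contracting data on a geometric fibre. -/
structure FibreContraction where
  /-- the section of the augmentation -/
  s' : fibObj η K.right ⟶ fibObj η (K.left.obj (op ⦋0⦌))
  /-- the extra degeneracy -/
  s : ∀ n : ℕ, fibObj η (K.left.obj (op ⦋n⦌)) ⟶ fibObj η (K.left.obj (op ⦋n + 1⦌))
  s'_ε : s' ≫ fibMap η (aug₀ K) = 𝟙 _
  s₀_δ₁ : s 0 ≫ fibMap η (K.left.δ (1 : Fin 2)) = fibMap η (aug₀ K) ≫ s'
  s_δ₀ : ∀ n, s n ≫ fibMap η (K.left.δ (0 : Fin (n + 2))) = 𝟙 _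
  s_δ : ∀ (n : ℕ) (i : Fin (n + 2)),
    s (n + 1) ≫ fibMap η (K.left.δ i.succ) = fibMap η (K.left.δ i) ≫ s n

variable {η K} [hK : ∀ n : ℕ, IsIntegralHom (K.left.obj (op ⦋n⦌)).hom] [IsIntegralHom K.right.hom]

theorem stalk_d_apply (n : ℕ) (a : (EtCoh.stalk η).obj (C F (lev K n))) :
    (EtCoh.stalk η).map ((coC F K).d n (n + 1)) a =
      ∑ i : Fin (n + 2), ((-1 : ℤ) ^ (i : ℕ)) • (EtCoh.stalk η).map (Cmap F (K.left.δ i)) a := by
  rw [coC_d, Functor.map_sum]
  rw [show (∑ i : Fin (n + 2), (EtCoh.stalk η).map (((-1 : ℤ) ^ (i : ℕ)) • Cmap F (K.left.δ i))) =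
      ∑ i : Fin (n + 2), ((-1 : ℤ) ^ (i : ℕ)) • (EtCoh.stalk η).map (Cmap F (K.left.δ i)) from
    Finset.sum_congr rfl fun i _ => Functor.map_zsmul _]
  let e : ((EtCoh.stalk η).obj (C F (lev K n)) ⟶ (EtCoh.stalk η).obj (C F (lev K (n + 1)))) →+
      (EtCoh.stalk η).obj (C F (lev K (n + 1))) :=
    AddMonoidHom.mk' (fun φ => φ a) (fun _ _ => rfl)
  show e _ = _
  rw [map_sum]
  simp only [map_zsmul]
  rfl

theorem injective_stalk_augC (c : FibreContraction η K) :
    Function.Injective ((EtCoh.stalk η).map (augC F K)) := by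
  refine (injective_iff_map_eq_zero _).2 fun a ha => ev_jointly_injective F a 0 fun ξ => ?_
  have h1 : θ F η K.right a = 0 := by
    have h2 := congrArg ((bigSh F).obj.map c.s'.op) ((θ_Cmap F η (aug₀ K) a).symm.trans
      ((congrArg (θ F η _) ha).trans (map_zero _)))
    rw [map_zero] at h2
    refine Eq.trans ?_ h2
    refine Eq.trans ?_ (map_map F c.s' (fibMap η (aug₀ K)) _).symm
    exact ((map_congr F c.s'_ε _).trans (ConcreteCategory.congr_hom ((bigSh F).obj.map_id _) _)).symm
  rw [ev_eq_θ, h1, map_zero, map_zero]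

theorem exists_preimage_zero (c : FibreContraction η K)
    (a : (EtCoh.stalk η).obj (C F (lev K 0)))
    (ha : (EtCoh.stalk η).map ((coC F K).d 0 1) a = 0) :
    ∃ b, (EtCoh.stalk η).map (augC F K) b = a := by
  obtain ⟨b, hb⟩ := exists_ev_eq F ((bigSh F).obj.map c.s'.op (θ F η _ a))
  refine ⟨b, ev_jointly_injective F _ _ fun ξ => ?_⟩
  refine (ev_Cmap F (aug₀ K) ξ b).trans ?_
  refine (hb _).trans ?_
  rw [ev_eq_θ]
  have hd := congrArg (θ F η _) ((stalk_d_apply F 0 a).symm.trans ha)
  rw [map_zero, map_sum, Fin.sum_univ_two] at hd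
  simp only [Fin.val_zero, Fin.val_one, pow_zero, one_smul, pow_one, neg_one_zsmul, map_neg] at hd
  rw [add_neg_eq_zero, θ_Cmap, θ_Cmap] at hd
  rw [map_map F]
  have e : (bigSh F).obj.map (fibMap η (aug₀ K) ≫ c.s').op (θ F η _ a) = θ F η _ a := by
    rw [← c.s₀_δ₁, ← map_map F]
    refine (congrArg _ hd.symm).trans ?_
    rw [map_map F, c.s_δ₀ 0, op_id, CategoryTheory.Functor.map_id]
    rfl
  refine Eq.trans ?_ (congrArg _ e)
  refine Eq.trans ?_ (map_map F _ _ _).symm
  refine map_congr F ?_ _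
  rw [← secO_fibMap, Category.assoc]

theorem exists_preimage_succ (c : FibreContraction η K) (n : ℕ)
    (a : (EtCoh.stalk η).obj (C F (lev K (n + 1))))
    (ha : (EtCoh.stalk η).map
      ((coC F K).d (n + 1) (n + 1 + 1)) a = 0) :
    ∃ b, (EtCoh.stalk η).map
      ((coC F K).d n (n + 1)) b = a := by
  let w := θ F η _ a
  let u := (bigSh F).obj.map (c.s n).op w
  obtain ⟨b, hb⟩ := exists_ev_eq F u
  refine ⟨b, ev_jointly_injective F _ _ fun ξ => ?_⟩
  have hd := congrArg (θ F η _) ((stalk_d_apply F (n + 1) a).symm.trans ha)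
  rw [map_zero, map_sum] at hd
  simp only [map_zsmul, θ_Cmap] at hd
  rw [Fin.sum_univ_succ] at hd
  simp only [Fin.val_zero, pow_zero, one_smul, Fin.val_succ, pow_succ, mul_neg, mul_one, neg_smul,
    Finset.sum_neg_distrib] at hd
  rw [add_neg_eq_zero] at hd
  have key : ∑ i : Fin (n + 2), ((-1 : ℤ) ^ (i : ℕ)) • (bigSh F).obj.map (fibMap η (K.left.δ i)).op u = w := by
    have : ∀ i : Fin (n + 2), (bigSh F).obj.map (fibMap η (K.left.δ i)).op u =
        (bigSh F).obj.map (c.s (n + 1)).op ((bigSh F).obj.map (fibMap η (K.left.δ i.succ)).op w) := fun i => by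
      simp only [u, map_map F]
      exact map_congr F (c.s_δ n i).symm w
    simp only [this]
    have e : ∀ y : Fin (n + 2) → (bigSh F).obj.obj (op (fibObj η (lev K (n + 1 + 1)))),
        ∑ i : Fin (n + 2), ((-1 : ℤ) ^ (i : ℕ)) • (bigSh F).obj.map (c.s (n + 1)).op (y i) =
          (bigSh F).obj.map (c.s (n + 1)).op (∑ i : Fin (n + 2), ((-1 : ℤ) ^ (i : ℕ)) • y i) := fun y => by
      rw [map_sum]; simp only [map_zsmul]
    refine (e _).trans ?_
    refine (congrArg _ hd.symm).trans ?_
    rw [map_map F, c.s_δ₀ (n + 1), op_id, CategoryTheory.Functor.map_id]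
    rfl
  have h1 : ev F ξ ((EtCoh.stalk η).map
      ((coC F K).d n (n + 1)) b) =
      ∑ i : Fin (n + 2), ((-1 : ℤ) ^ (i : ℕ)) •
        (bigSh F).obj.map (secO ξ).op ((bigSh F).obj.map (fibMap η (K.left.δ i)).op u) := by
    rw [stalk_d_apply, map_sum]
    refine Finset.sum_congr rfl fun i _ => ?_
    rw [map_zsmul]
    exact congrArg (((-1 : ℤ) ^ (i : ℕ)) • ·) (((ev_Cmap F (K.left.δ i) ξ b).trans (hb _)).trans
      ((map_congr F (secO_fibMap (K.left.δ i) ξ).symm u).trans (map_map F _ _ u).symm))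
  refine h1.trans ?_
  rw [ev_eq_θ]
  refine Eq.trans ?_ (congrArg _ key)
  rw [map_sum]
  simp only [map_zsmul]

/-- The descent complex is exact. -/
theorem acyclic_descCx
    (c : ∀ (Ω : Type u) [Field Ω] [IsAlgClosed Ω] (η : Spec (CommRingCat.of Ω) ⟶ S),
      Nonempty (FibreContraction η K)) :
    (descCx F K).Acyclic := by
  intro p
  by_cases hp : ∃ m : ℕ, (ComplexShape.embeddingUpIntGE (-1)).f m = p
  · obtain ⟨m, rfl⟩ := hp
    rw [HomologicalComplex.extend_exactAt_iff (augCx F K) _ rfl]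
    rcases m with _ | m
    · rw [HomologicalComplex.exactAt_iff' _ 0 0 1 (by simp) (by simp)]
      refine exact_of_stalk_algClosed _ fun Ω _ _ η => ?_
      obtain ⟨c⟩ := c Ω η
      rw [ShortComplex.ab_exact_iff]
      intro a ha
      exact ⟨0, (map_zero _).trans (injective_stalk_augC F c (ha.trans (map_zero _).symm)).symm⟩
    · rcases m with _ | m
      · rw [HomologicalComplex.exactAt_iff' _ 0 1 2 (by simp) (by simp)]
        refine exact_of_stalk_algClosed _ fun Ω _ _ η => ?_
        obtain ⟨c⟩ := c Ω η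
        rw [ShortComplex.ab_exact_iff]
        exact fun a ha => exists_preimage_zero F c a ha
      · rw [HomologicalComplex.exactAt_iff' _ (m + 1) (m + 2) (m + 3) (by simp) (by simp)]
        refine exact_of_stalk_algClosed _ fun Ω _ _ η => ?_
        obtain ⟨c⟩ := c Ω η
        rw [ShortComplex.ab_exact_iff]
        exact fun a ha => exists_preimage_succ F c m a ha
  · exact HomologicalComplex.extend_exactAt _ _ p fun j hj => hp ⟨j, hj⟩

end Groth.Agent.H15Site.IntDesc
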