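import Groth.Agent.H15Site.DoubleSS.Engine
import Groth.Agent.H15Site.RDExt
import Mathlib.Algebra.Homology.Embedding.ExtendHomology
import Mathlib.Algebra.Homology.HomologicalBicomplex
import Mathlib.Algebra.Homology.QuasiIso
import Mathlib.CategoryTheory.Abelian.Injective.Basic
import Mathlib.CategoryTheory.Abelian.Injective.Resolution
import Mathlib.CategoryTheory.Abelian.Refinements
import Mathlib.Algebra.Homology.ShortComplex.HomologicalComplex

/-!
# The spectral sequence of an exact complex for `Ext(Z, -)`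

For an exact complex `C` in degrees `≥ -1` in an abelian category with enough injectives,
`E₁^{p,q} = Ext^q(Z, C^p) ⇒ Ext^{p+q}(Z, C^{-1})`.
-/

set_option autoImplicit false
set_option linter.style.haveILetI false
set_option linter.unusedSectionVars false
set_option backward.isDefEq.respectTransparency false

universe v w

open CategoryTheory CategoryTheory.Limits CategoryTheory.Abelian Opposite
open scoped ZeroObject

namespace Groth.Agent.H15Site.IntDesc.ResSS

variable {A : Type w} [Category.{v} A] [Abelian A] [EnoughInjectives A]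

theorem exists_env (X : A) : ∃ (I : A) (f : X ⟶ I), Injective I ∧ Mono f ∧ (IsZero X → IsZero I) := by
  by_cases h : IsZero X
  · exact ⟨X, 𝟙 X, ⟨fun g f _ => ⟨0, h.eq_of_tgt _ _⟩⟩, inferInstance, fun _ => h⟩
  · exact ⟨Injective.under X, Injective.ι X, inferInstance, inferInstance, fun h' => absurd h' h⟩

/-- An injective containing the object, zero if the object is. -/
noncomputable def env (X : A) : A := (exists_env X).choose

/-- The inclusion. -/
noncomputable def envι (X : A) : X ⟶ env X := (exists_env X).choose_spec.choose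

instance injective_env (X : A) : Injective (env X) := (exists_env X).choose_spec.choose_spec.1

instance mono_envι (X : A) : Mono (envι X) := (exists_env X).choose_spec.choose_spec.2.1

theorem isZero_env {X : A} (h : IsZero X) : IsZero (env X) := (exists_env X).choose_spec.choose_spec.2.2 h

variable (C : CochainComplex A ℤ)

/-- The terms of the injective split exact complex. -/
noncomputable abbrev Jobj (p : ℤ) : A := env (C.cycles p) ⊞ env (C.cycles (p + 1))

/-- The injective split exact complex. -/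
noncomputable def Jc : CochainComplex A ℤ :=
  CochainComplex.of (Jobj C) (fun _ => biprod.snd ≫ biprod.inl) (fun _ => by simp)

theorem Jc_d (p : ℤ) :
    (Jc C).d p (p + 1) = (biprod.snd ≫ biprod.inl : Jobj C p ⟶ Jobj C (p + 1)) :=
  CochainComplex.of_d (Jobj C) (fun _ => biprod.snd ≫ biprod.inl) p

instance injective_Jc (p : ℤ) : Injective ((Jc C).X p) :=
  inferInstanceAs (Injective (env (C.cycles p) ⊞ env (C.cycles (p + 1))))

/-- The extension of `cycles ⟶ env`. -/
noncomputable def aMap (p : ℤ) : C.X p ⟶ env (C.cycles p) :=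
  Injective.factorThru (envι (C.cycles p)) (C.iCycles p)

theorem iCycles_aMap (p : ℤ) : C.iCycles p ≫ aMap C p = envι (C.cycles p) :=
  Injective.comp_factorThru _ _

/-- The map to the injective complex. -/
noncomputable def toJ : C ⟶ Jc C where
  f p := biprod.lift (aMap C p) (C.toCycles p (p + 1) ≫ envι _)
  comm' i j (hij : i + 1 = j) := by
    subst hij
    rw [Jc_d]
    refine biprod.hom_ext _ _ ?_ ?_
    · simp only [Category.assoc, biprod.inl_fst, Category.comp_id, biprod.lift_snd, biprod.lift_fst]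
      conv_rhs => rw [← C.toCycles_i i (i + 1), Category.assoc, iCycles_aMap]
    · simp only [Category.assoc, biprod.inl_snd, comp_zero, biprod.lift_snd]
      rw [← C.toCycles_i i (i + 1), Category.assoc, ← Category.assoc (C.iCycles _)]
      rw [show C.iCycles (i + 1) ≫ C.toCycles (i + 1) (i + 1 + 1) = 0 from by
        rw [← cancel_mono (C.iCycles (i + 1 + 1)), Category.assoc, C.toCycles_i, C.iCycles_d, zero_comp],
        zero_comp, comp_zero]

instance mono_toJ_f (p : ℤ) : Mono ((toJ C).f p) := Preadditive.mono_of_cancel_zero _ fun {T} k hk => by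
  have h2 : k ≫ C.toCycles p (p + 1) = 0 := by
    have := hk =≫ biprod.snd
    simp only [toJ, Category.assoc, biprod.lift_snd, zero_comp] at this
    rwa [← cancel_mono (envι (C.cycles (p + 1))), zero_comp, Category.assoc]
  have hd : k ≫ C.d p (p + 1) = 0 := by
    rw [← C.toCycles_i p (p + 1), reassoc_of% h2, zero_comp]
  have h1 : C.liftCycles k (p + 1) (by simp) hd = 0 := by
    rw [← cancel_mono (envι (C.cycles p)), zero_comp, ← iCycles_aMap, ← Category.assoc, C.liftCycles_i]
    have := hk =≫ biprod.fst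
    simpa only [toJ, Category.assoc, biprod.lift_fst, zero_comp] using this
  rw [← C.liftCycles_i k (p + 1) (by simp) hd, h1, zero_comp]

instance mono_toJ : Mono (toJ C) := HomologicalComplex.mono_of_mono_f _ (mono_toJ_f C)

/-- Homotopy: the inverse of the differential. -/
theorem exists_preimage_Jc {T : A} (i j : ℤ) (hij : i + 1 = j) (x : T ⟶ (Jc C).X j)
    (hx : x ≫ (Jc C).d j (j + 1) = 0) : ∃ y : T ⟶ (Jc C).X i, y ≫ (Jc C).d i j = x := by
  subst hij
  rw [Jc_d] at hx
  refine ⟨((show T ⟶ Jobj C (i + 1) from x) ≫ biprod.fst) ≫ biprod.inr, ?_⟩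
  rw [Jc_d]
  have h2 : (show T ⟶ Jobj C (i + 1) from x) ≫ biprod.snd = 0 := by
    have := hx =≫ biprod.fst
    simp only [Category.assoc, biprod.inl_fst, Category.comp_id, zero_comp] at this
    exact this
  refine biprod.hom_ext _ _ ?_ ?_
  · simp
  · simp [h2]

theorem acyclic_Jc : (Jc C).Acyclic := fun p => by
  rw [HomologicalComplex.exactAt_iff' _ (p - 1) p (p + 1) (by simp) (by simp),
    ShortComplex.exact_iff_exact_up_to_refinements]
  intro T x hx
  obtain ⟨y, hy⟩ := exists_preimage_Jc C (p - 1) p (by omega) x hx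
  exact ⟨T, 𝟙 T, inferInstance, y, (Category.id_comp _).trans hy.symm⟩

theorem isZero_Jc_X (p : ℤ) (hC : C.ExactAt (p + 1)) (h : IsZero (C.X p)) : IsZero ((Jc C).X p) := by
  have he : Epi (C.toCycles p (p + 1)) :=
    (ShortComplex.exact_of_g_is_cokernel (ShortComplex.mk _ _ (C.toCycles_comp_homologyπ p (p + 1)))
      (C.homologyIsCokernel p (p + 1) (by simp))).epi_f (hC.isZero_homology.eq_of_tgt _ _)
  exact (biprod_isZero_iff _ _).2 ⟨isZero_env (IsZero.of_mono (C.iCycles p) h),
    isZero_env (IsZero.of_epi (C.toCycles p (p + 1)) h)⟩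

/-- The cokernel complexes. -/
noncomputable def Cn : ℕ → CochainComplex A ℤ
  | 0 => C
  | n + 1 => cokernel (toJ (Cn n))

theorem acyclic_Cn (hC : C.Acyclic) : ∀ n, (Cn C n).Acyclic
  | 0 => hC
  | n + 1 => fun p => by
    have hS : (ShortComplex.mk (toJ (Cn C n)) (cokernel.π _) (cokernel.condition _)).ShortExact :=
      { exact := ShortComplex.exact_cokernel _ }
    rw [HomologicalComplex.exactAt_iff_isZero_homology]
    exact (hS.homology_exact₃ p (p + 1) rfl).isZero_of_both_zeros
      (((acyclic_Jc (Cn C n)) p).isZero_homology.eq_of_src _ _)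
      (((acyclic_Cn hC n) (p + 1)).isZero_homology.eq_of_tgt _ _)

theorem isZero_Cn_X (hC : C.Acyclic) (p : ℤ) (h : IsZero (C.X p)) : ∀ n, IsZero ((Cn C n).X p)
  | 0 => h
  | n + 1 => by
    have := isZero_Cn_X hC p h n
    exact IsZero.of_epi ((cokernel.π (toJ (Cn C n))).f p)
      (isZero_Jc_X _ p (acyclic_Cn C hC n (p + 1)) this)

/-- The injective complexes, as one double complex indexed by the resolution degree. -/
noncomputable def res : CochainComplex (CochainComplex A ℤ) ℕ :=
  CochainComplex.of (fun n => Jc (Cn C n))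
    (fun n => cokernel.π (toJ (Cn C n)) ≫ toJ (Cn C (n + 1)))
    (fun n => by
      show (cokernel.π _ ≫ _) ≫ cokernel.π _ ≫ _ = 0
      simp only [Category.assoc]
      rw [show toJ (Cn C (n + 1)) ≫ cokernel.π (toJ (Cn C (n + 1))) ≫ toJ (Cn C (n + 1 + 1)) = 0
        from by rw [cokernel.condition_assoc, zero_comp], comp_zero])

theorem res_d (n : ℕ) :
    (res C).d n (n + 1) = cokernel.π (toJ (Cn C n)) ≫ toJ (Cn C (n + 1)) := by
  exact CochainComplex.of_d (fun n => Jc (Cn C n))
    (fun n => cokernel.π (toJ (Cn C n)) ≫ toJ (Cn C (n + 1))) n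

/-- Flipped: for each `p` an injective resolution of `C^p`. -/
noncomputable abbrev flipRes : CochainComplex (CochainComplex A ℕ) ℤ :=
  HomologicalComplex₂.flip (res C)

/-- The augmentation. -/
noncomputable def ι₀ (p : ℤ) :
    (CochainComplex.single₀ A).obj (C.X p) ⟶ (flipRes C).X p :=
  (CochainComplex.fromSingle₀Equiv _ _).symm ⟨(toJ C).f p, by
    show (toJ (Cn C 0)).f p ≫ ((res C).d 0 1).f p = 0
    rw [show ((res C).d 0 1) = cokernel.π (toJ (Cn C 0)) ≫ toJ (Cn C 1) from res_d C 0,
      HomologicalComplex.comp_f, ← Category.assoc, ← HomologicalComplex.comp_f, cokernel.condition,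
      HomologicalComplex.zero_f, zero_comp]⟩

theorem exact_step (n : ℕ) (p : ℤ) :
    (ShortComplex.mk ((toJ (Cn C n)).f p) ((cokernel.π (toJ (Cn C n))).f p)
      (by rw [← HomologicalComplex.comp_f, cokernel.condition, HomologicalComplex.zero_f])).Exact :=
  (ShortComplex.exact_cokernel (toJ (Cn C n))).map
    (HomologicalComplex.eval A (ComplexShape.up ℤ) p)

theorem quasiIso_ι₀ (p : ℤ) : QuasiIso (ι₀ C p) := by
  refine ⟨fun n => ?_⟩
  cases n with
  | zero =>
    rw [CochainComplex.quasiIsoAt₀_iff, ShortComplex.quasiIso_iff_of_zeros]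
    · let T := ShortComplex.mk ((toJ C).f p) (((res C).d 0 1).f p) (by
          show (toJ (Cn C 0)).f p ≫ _ = 0
          rw [show ((res C).d 0 1) = cokernel.π (toJ (Cn C 0)) ≫ toJ (Cn C 1) from res_d C 0,
            HomologicalComplex.comp_f, ← Category.assoc, ← HomologicalComplex.comp_f,
            cokernel.condition, HomologicalComplex.zero_f, zero_comp])
      refine (ShortComplex.exact_and_mono_f_iff_of_iso (S₂ := T) ?_).2 ⟨?_, ?_⟩
      · exact ShortComplex.isoMk (Iso.refl _) (Iso.refl _) (Iso.refl _)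
          (by simp [T, ι₀]) (by simp [T])
      · have hm : Mono ((toJ (Cn C 1)).f p) := mono_toJ_f _ p
        let φ : ShortComplex.mk ((toJ (Cn C 0)).f p) ((cokernel.π (toJ (Cn C 0))).f p)
            (by rw [← HomologicalComplex.comp_f, cokernel.condition, HomologicalComplex.zero_f]) ⟶ T :=
          { τ₁ := 𝟙 _, τ₂ := 𝟙 _, τ₃ := (toJ (Cn C 1)).f p
            comm₁₂ := (Category.id_comp _).trans (Category.comp_id _).symm
            comm₂₃ := (Category.id_comp _).trans
              (congrArg (fun f => HomologicalComplex.Hom.f f p) (res_d C 0)) }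
        have : Epi φ.τ₁ := inferInstanceAs (Epi (𝟙 _))
        have : IsIso φ.τ₂ := inferInstanceAs (IsIso (𝟙 _))
        have : Mono φ.τ₃ := hm
        exact (ShortComplex.exact_iff_of_epi_of_isIso_of_mono φ).1 (exact_step C 0 p)
      · exact mono_toJ_f C p
    all_goals rfl
  | succ n =>
    rw [quasiIsoAt_iff_exactAt _ _ (HomologicalComplex.exactAt_single_obj _ _ _ _ (by simp)),
      HomologicalComplex.exactAt_iff' _ n (n + 1) (n + 1 + 1) (by simp) (by simp)]
    let S₁ := ShortComplex.mk ((toJ (Cn C (n + 1))).f p) ((cokernel.π (toJ (Cn C (n + 1)))).f p)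
      (by rw [← HomologicalComplex.comp_f, cokernel.condition, HomologicalComplex.zero_f])
    let S₃ := ((flipRes C).X p).sc' n (n + 1) (n + 1 + 1)
    have hm : Mono ((toJ (Cn C (n + 1 + 1))).f p) := mono_toJ_f _ p
    have he : Epi ((cokernel.π (toJ (Cn C n))).f p) := inferInstance
    let S₂ := ShortComplex.mk (((cokernel.π (toJ (Cn C n))).f p) ≫ S₁.f) S₁.g
      (by rw [Category.assoc, S₁.zero, comp_zero])
    let ψ : S₂ ⟶ S₁ :=
      { τ₁ := (cokernel.π (toJ (Cn C n))).f p, τ₂ := 𝟙 _, τ₃ := 𝟙 _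
        comm₁₂ := (Category.comp_id _).symm
        comm₂₃ := (Category.id_comp _).trans (Category.comp_id _).symm }
    have : Epi ψ.τ₁ := he
    have : IsIso ψ.τ₂ := inferInstanceAs (IsIso (𝟙 _))
    have : Mono ψ.τ₃ := inferInstanceAs (Mono (𝟙 _))
    have h₂ : S₂.Exact := (ShortComplex.exact_iff_of_epi_of_isIso_of_mono ψ).2 (exact_step C (n + 1) p)
    let φ : S₂ ⟶ S₃ :=
      { τ₁ := 𝟙 _, τ₂ := 𝟙 _, τ₃ := (toJ (Cn C (n + 1 + 1))).f p
        comm₁₂ := (Category.id_comp _).trans ((congrArg (fun f => HomologicalComplex.Hom.f f p)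
          (res_d C n)).trans (Category.comp_id _).symm)
        comm₂₃ := (Category.id_comp _).trans
          (congrArg (fun f => HomologicalComplex.Hom.f f p) (res_d C (n + 1))) }
    have : Epi φ.τ₁ := inferInstanceAs (Epi (𝟙 _))
    have : IsIso φ.τ₂ := inferInstanceAs (IsIso (𝟙 _))
    have : Mono φ.τ₃ := hm
    exact (ShortComplex.exact_iff_of_epi_of_isIso_of_mono φ).1 h₂

/-- The injective resolution of `C^p`. -/
noncomputable def injRes (p : ℤ) : InjectiveResolution (C.X p) where
  cocomplex := (flipRes C).X p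
  injective n := injective_Jc (Cn C n) p
  ι := ι₀ C p
  quasiIso := quasiIso_ι₀ C p

variable [HasExt.{v} A] (Z : A)

/-- The double complex of maps from `Z`. -/
noncomputable abbrev dbl : DoubleSS.Dbl.{v} :=
  ((ComplexShape.embeddingUpNat.extendFunctor AddCommGrpCat.{v}).mapHomologicalComplex
    (ComplexShape.up ℤ)).obj
    ((((preadditiveCoyoneda.obj (op Z)).mapHomologicalComplex (ComplexShape.up ℕ)).mapHomologicalComplex
      (ComplexShape.up ℤ)).obj (flipRes C))

theorem isZero_dbl (p q : ℤ) (hq : q < 0) : IsZero (((dbl C Z).X p).X q) :=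
  HomologicalComplex.isZero_extend_X _ ComplexShape.embeddingUpNat q fun n hn => by
    simp at hn; omega

theorem nonempty_Ext_iso (p : ℤ) (q : ℕ) :
    Nonempty (((dbl C Z).X p).homology (q : ℤ) ≅ AddCommGrpCat.of (Ext.{v} Z (C.X p) q)) :=
  ⟨(HomologicalComplex.extendHomologyIso
      (((preadditiveCoyoneda.obj (op Z)).mapHomologicalComplex (ComplexShape.up ℕ)).obj ((flipRes C).X p))
      ComplexShape.embeddingUpNat (j := q) rfl) ≪≫
    (RDExt.homologyEquiv Z (preadditiveCoyoneda.obj (op Z)) (fun _ => AddEquiv.refl _)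
      (fun _ _ _ _ => rfl) (injRes C p) q).toAddCommGrpIso⟩

theorem dbl_row_exact (p q : ℤ) (x : ((dbl C Z).X p).X q)
    (hx : (((dbl C Z).d p (p + 1)).f q).hom x = 0) :
    ∃ y : ((dbl C Z).X (p - 1)).X q, (((dbl C Z).d (p - 1) p).f q).hom y = x := by
  rcases Int.lt_or_le q 0 with hq | hq
  · have := AddCommGrpCat.subsingleton_of_isZero (isZero_dbl C Z p q hq)
    exact ⟨0, @Subsingleton.elim _ this _ _⟩
  · obtain ⟨n, rfl⟩ := Int.eq_ofNat_of_zero_le hq
    let G := preadditiveCoyoneda.obj (op Z)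
    let Y := Jc (Cn C n)
    let e := fun i : ℤ => ((G.mapHomologicalComplex (ComplexShape.up ℕ)).obj
      ((flipRes C).X i)).extendXIso ComplexShape.embeddingUpNat
        (show ComplexShape.embeddingUpNat.f n = (n : ℤ) from rfl)
    have hd : ∀ i j (z : ((dbl C Z).X i).X (n : ℤ)), (((dbl C Z).d i j).f (n : ℤ)).hom z =
        (e j).inv.hom ((G.map (Y.d i j)).hom ((e i).hom.hom z)) := fun i j z => by
      show (HomologicalComplex.extendMap ((G.mapHomologicalComplex (ComplexShape.up ℕ)).map
        ((flipRes C).d i j)) ComplexShape.embeddingUpNat).f (n : ℤ) z = _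
      rw [HomologicalComplex.extendMap_f _ _ (show ComplexShape.embeddingUpNat.f n = (n : ℤ) from rfl)]
      rfl
    have h0 : (G.map (Y.d p (p + 1))).hom ((e p).hom.hom x) = 0 := by
      rw [hd] at hx
      have h1 := congrArg (e (p + 1)).hom.hom hx
      rw [map_zero] at h1
      exact (ConcreteCategory.congr_hom (e (p + 1)).inv_hom_id _).symm.trans h1
    obtain ⟨a, ha⟩ := exists_preimage_Jc (Cn C n) (p - 1) p (by omega) ((e p).hom.hom x) h0
    refine ⟨(e (p - 1)).inv.hom a, ?_⟩
    rw [hd]
    refine (congrArg (fun z => (e p).inv.hom ((G.map (Y.d (p - 1) p)).hom z))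
      (ConcreteCategory.congr_hom (e (p - 1)).inv_hom_id a)).trans ?_
    refine (congrArg (e p).inv.hom ha).trans ?_
    exact ConcreteCategory.congr_hom (e p).hom_inv_id x

/-- **The spectral sequence of an exact complex**. -/
theorem resolution_spectralSequence (hC : C.Acyclic) (hp : ∀ p, p < -1 → IsZero (C.X p))
    (E₁ : ℤ → ℤ → AddCommGrpCat.{v}) (H : ℤ → AddCommGrpCat.{v})
    (he : ∀ p q : ℤ, 0 ≤ p → 0 ≤ q →
      Nonempty (AddCommGrpCat.of (Ext.{v} Z (C.X p) q.toNat) ≅ E₁ p q))
    (hz : ∀ p q : ℤ, ¬ (0 ≤ p ∧ 0 ≤ q) → IsZero (E₁ p q))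
    (hH : ∀ n : ℤ, 0 ≤ n → Nonempty (AddCommGrpCat.of (Ext.{v} Z (C.X (-1)) n.toNat) ≅ H n))
    (hHz : ∀ n : ℤ, n < 0 → IsZero (H n)) :
    ∃ (E : CohomologicalSpectralSequence AddCommGrpCat.{v} 1) (a : SpSeq.Abutment E H),
      (∀ n, a.IsFinite n) ∧ SpSeq.IsBounded E ∧
      ∀ p q : ℤ, Nonempty ((E.page 1 le_rfl).X (p, q) ≅ E₁ p q) := by
  refine DoubleSS.exists_spectralSequence (dbl C Z) (fun p hp' => ?_) (isZero_dbl C Z)
    (dbl_row_exact C Z) E₁ H (fun p q h1 h2 => ?_) hz (fun n => ?_)
  · refine (ComplexShape.embeddingUpNat.extendFunctor AddCommGrpCat.{v}).map_isZero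
      (((preadditiveCoyoneda.obj (op Z)).mapHomologicalComplex (ComplexShape.up ℕ)).map_isZero ?_)
    rw [IsZero.iff_id_eq_zero]
    refine HomologicalComplex.hom_ext _ _ fun n => ?_
    exact (isZero_Jc_X _ p (acyclic_Cn C hC n (p + 1)) (isZero_Cn_X C hC p (hp p hp') n)).eq_of_src _ _
  · obtain ⟨q, rfl⟩ := Int.eq_ofNat_of_zero_le h2
    exact ⟨(nonempty_Ext_iso C Z p q).some ≪≫ (he p q h1 h2).some⟩
  · rcases Int.lt_or_le n 0 with hn | hn
    · refine ⟨IsZero.iso ?_ (hHz n hn)⟩
      exact HomologicalComplex.ExactAt.isZero_homology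
        (ShortComplex.exact_of_isZero_X₂ _ (isZero_dbl C Z _ n hn))
    · obtain ⟨n, rfl⟩ := Int.eq_ofNat_of_zero_le hn
      exact ⟨(nonempty_Ext_iso C Z (-1) n).some ≪≫ (hH n hn).some⟩

end Groth.Agent.H15Site.IntDesc.ResSS
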